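import Cfsg.Agent.Lib.BlockArith.DihDefect.Unramified
import Cfsg.Agent.Lib.Blocks.Laradji
import Cfsg.Agent.Lib.CharBlocks.ClassMul

/-!
# Block idempotents times class sums

* `sum_orbits`: sums of invariant functions on orbits of size divisible by `n`;
* `not_mem_locRing_of`: quotients that are not local integers;
* `sum_blockCoeff_shift`, `classConv`: the idempotent times a class sum and its square.
-/

set_option autoImplicit false

noncomputable section

open scoped ComplexConjugate Classical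

namespace CfsgLib.DihDefect

open Cfsg CfsgLib.Blocks CfsgLib.Char

theorem sum_orbits {H X : Type*} [Group H] [MulAction H X] [Fintype X] {R : Type*} [CommRing R] (n : ℕ)
    (F : X → R) (hinv : ∀ (a : H) (x : X), F (a • x) = F x)
    (hn : ∀ x, F x ≠ 0 → n ∣ Nat.card (MulAction.orbit H x)) :
    ∃ y : R, ∑ x, F x = (n : R) * y := by
  set s := MulAction.orbitRel H X
  let q : X → Quotient s := Quotient.mk s
  rw [← Finset.sum_fiberwise_of_maps_to (g := q) (fun x _ => Finset.mem_univ (q x)) F]
  have h : ∀ ω : Quotient s, ∃ y : R, ∑ x ∈ Finset.univ.filter (fun x => q x = ω), F x = (n : R) * y := by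
    intro ω
    obtain ⟨x, rfl⟩ := Quotient.exists_rep ω
    have hfib : Finset.univ.filter (fun y => q y = Quotient.mk s x) = (MulAction.orbit H x).toFinset := by
      ext y
      rw [Finset.mem_filter, Set.mem_toFinset, ← MulAction.orbitRel_apply, and_iff_right (Finset.mem_univ y)]
      exact Quotient.eq
    rw [hfib, Finset.sum_congr rfl (g := fun _ => F x) fun y hy => by
      obtain ⟨a, rfl⟩ := Set.mem_toFinset.mp hy
      exact hinv a x, Finset.sum_const, nsmul_eq_mul, Set.toFinset_card, ← Nat.card_eq_fintype_card]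
    by_cases hx : F x = 0
    · exact ⟨0, by rw [hx, mul_zero, mul_zero]⟩
    · obtain ⟨k, hk⟩ := hn x hx
      exact ⟨(k : R) * F x, by rw [hk, Nat.cast_mul, mul_assoc]⟩
  choose y hy using h
  exact ⟨∑ ω, y ω, by rw [Finset.mul_sum]; exact Finset.sum_congr rfl fun ω _ => hy ω⟩

variable {M : Ideal AlgInt} [M.IsMaximal]

theorem not_mem_locRing_of (hM : IsPModular 2 M) {A B : ℕ} (hA : A ≠ 0) (hB : B ≠ 0)
    (hv : A.factorization 2 < B.factorization 2) {X : ℂ} (hX : X * (B : ℂ) = (A : ℂ)) : X ∉ locRing M := by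
  intro hmem
  set i := A.factorization 2 with hi
  set A' := A / 2 ^ i
  set B' := B / 2 ^ B.factorization 2
  have hA' : ¬ 2 ∣ A' := Nat.not_dvd_ordCompl Nat.prime_two hA
  obtain ⟨j, hj⟩ : ∃ j, B.factorization 2 = i + (j + 1) := ⟨B.factorization 2 - i - 1, by omega⟩
  have eA : A = 2 ^ i * A' := (Nat.ordProj_mul_ordCompl_eq_self A 2).symm
  have eB : B = 2 ^ (i + (j + 1)) * B' := by rw [← hj]; exact (Nat.ordProj_mul_ordCompl_eq_self B 2).symm
  have h2 : X * ((2 ^ (j + 1) * B' : ℕ) : ℂ) = (A' : ℂ) := by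
    refine mul_left_cancel₀ (pow_ne_zero i (two_ne_zero (α := ℂ))) ?_
    rw [eA, eB, pow_add, mul_assoc] at hX
    push_cast at hX ⊢
    linear_combination hX
  have h3 : (⟨X, hmem⟩ : locRing M) * ((2 ^ (j + 1) * B' : ℕ) : locRing M) = (A' : locRing M) :=
    Subtype.ext (by
      simp only [Subring.coe_mul, SubringClass.coe_natCast]
      exact h2)
  have h4 := congrArg (res M) h3
  rw [map_mul, map_natCast, map_natCast, Nat.cast_mul, Nat.cast_pow,
    show ((2 : ℕ) : Res M) = 0 from (map_natCast (res M) 2).symm.trans ((res_natCast_eq_zero_iff M hM 2).mpr dvd_rfl),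
    zero_pow (Nat.succ_ne_zero j), zero_mul, mul_zero] at h4
  exact res_natCast_odd hM hA' h4.symm

section classSum

variable {G : Type*} [Group G] [Fintype G]

/-- Shifted sums of a character over a set of classes. -/
theorem char_one_mul_sum_classes {χ : G → ℂ} (hχ : IsIrrCharacter G χ) (S : Finset G)
    (hS : ∀ g : G, ∀ k ∈ S, g * k * g⁻¹ ∈ S) (w : G) :
    χ 1 * ∑ k ∈ S, χ (k * w) = χ w * ∑ k ∈ S, χ k := by
  apply mul_left_cancel₀ (card_ne_zero' (G := G))
  have h1 : ∀ g : G, ∑ k ∈ S, χ (g * k * g⁻¹ * w) = ∑ k ∈ S, χ (k * w) := fun g => by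
    refine Finset.sum_nbij' (fun k => g * k * g⁻¹) (fun k => g⁻¹ * k * g) (fun k hk => hS g k hk)
      (fun k hk => by simpa using hS g⁻¹ k hk) (fun k _ => by group) (fun k _ => by group) fun k _ => rfl
  calc (Nat.card G : ℂ) * (χ 1 * ∑ k ∈ S, χ (k * w)) = χ 1 * ∑ g : G, ∑ k ∈ S, χ (g * k * g⁻¹ * w) := by
        rw [Finset.sum_congr rfl fun g _ => h1 g, Finset.sum_const, Finset.card_univ, nsmul_eq_mul,
          ← Nat.card_eq_fintype_card]
        ring
    _ = ∑ k ∈ S, (Nat.card G : ℂ) * χ k * χ w := by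
        rw [Finset.sum_comm, Finset.mul_sum]
        exact Finset.sum_congr rfl fun k _ => CharBlocks.sum_conj_mul hχ k w
    _ = (Nat.card G : ℂ) * (χ w * ∑ k ∈ S, χ k) := by
        rw [Finset.mul_sum, Finset.mul_sum]
        exact Finset.sum_congr rfl fun k _ => by ring

theorem blockCoeff_inv_mul (B : Set (IrrCharacter G)) (g k : G) :
    blockCoeff B (g⁻¹ * k) =
      (Nat.card G : ℂ)⁻¹ * ∑ χ : IrrCharacter G, if χ ∈ B then (χ : G → ℂ) 1 * (χ : G → ℂ) (k⁻¹ * g) else 0 := by
  rw [blockCoeff_eq]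
  refine congrArg _ (Finset.sum_congr rfl fun χ _ => ?_)
  rw [← char_inv (isCharacter_of_isIrr χ.2), mul_inv_rev, inv_inv]

/-- A class-invariant set on which the block has support `{z}`, `z` central. -/
theorem sum_blockCoeff_shift (B : Set (IrrCharacter G)) (S : Finset G) (hS : ∀ g : G, ∀ k ∈ S, g * k * g⁻¹ ∈ S)
    {z : G} (hz : z ∈ Subgroup.center G) (hzS : z ∈ S) (hz2 : z * z = 1) (hS2 : ∀ k ∈ S, k * k = 1)
    (hvan : ∀ χ : IrrCharacter G, χ ∈ B → ∀ k ∈ S, k ≠ z → (χ : G → ℂ) k = 0) (w : G) :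
    ∑ k ∈ S, blockCoeff B (w⁻¹ * k) = blockCoeff B (w⁻¹ * z) := by
  simp only [blockCoeff_inv_mul, ← Finset.mul_sum]
  rw [Finset.sum_comm]
  refine congrArg _ (Finset.sum_congr rfl fun χ _ => ?_)
  split_ifs with hχ
  · rw [← Finset.mul_sum, Finset.sum_congr rfl fun k hk => by rw [inv_eq_of_mul_eq_one_right (hS2 k hk)],
      char_one_mul_sum_classes χ.2 S hS w,
      Finset.sum_eq_single z (fun k hk hne => hvan χ hχ k hk hne) (fun h => absurd hzS h),
      inv_eq_of_mul_eq_one_right hz2, char_central_mul χ hz, centScal]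
    field_simp [irr_one_ne_zero χ.2]
  · simp

/-- The conjugates of an element. -/
def conjSet (z : G) : Finset G := Finset.univ.filter fun k => IsConj z k

theorem conj_mem_conjSet {z : G} (g : G) {k : G} (hk : k ∈ conjSet z) : g * k * g⁻¹ ∈ conjSet z := by
  simp only [conjSet, Finset.mem_filter, Finset.mem_univ, true_and] at hk ⊢
  exact hk.trans (isConj_iff.mpr ⟨g, rfl⟩)

/-- The coefficient of the idempotent of `B` times the class sum of `z`. -/
def classConv (B : Set (IrrCharacter G)) (z g : G) : ℂ := ∑ k ∈ conjSet z, blockCoeff B (g⁻¹ * k)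

theorem classConv_conj (B : Set (IrrCharacter G)) (z g w : G) :
    classConv B z (w * g * w⁻¹) = classConv B z g := by
  refine (Finset.sum_nbij' (fun k => w * k * w⁻¹) (fun k => w⁻¹ * k * w) (fun k hk => conj_mem_conjSet w hk)
    (fun k hk => by simpa using conj_mem_conjSet w⁻¹ hk) (fun k _ => by group) (fun k _ => by group)
    fun k _ => ?_).symm
  rw [← blockCoeff_conj B (g⁻¹ * k) w]
  congr 1
  group

theorem classConv_mem {B : Set (IrrCharacter G)} (hB : IsPBlock M B) (z g : G) :
    classConv B z g ∈ locRing M :=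
  Subring.sum_mem _ fun _ _ => blockCoeff_mem_locRing hB _

theorem classConv_eq (B : Set (IrrCharacter G)) {z : G} (hz2 : z * z = 1) (g : G) :
    classConv B z g = (Nat.card (Subgroup.centralizer ({z} : Set G)) : ℂ)⁻¹ *
      ∑ χ : IrrCharacter G, if χ ∈ B then (χ : G → ℂ) z * (χ : G → ℂ) g else 0 := by
  simp only [classConv, blockCoeff_inv_mul, ← Finset.mul_sum]
  rw [Finset.sum_comm, Finset.mul_sum, Finset.mul_sum]
  refine Finset.sum_congr rfl fun χ _ => ?_
  split_ifs with hχ
  · have hS2 : ∀ k ∈ conjSet z, k * k = 1 := fun k hk => by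
      obtain ⟨w, rfl⟩ := isConj_iff.mp (Finset.mem_filter.mp hk).2
      rw [show w * z * w⁻¹ * (w * z * w⁻¹) = w * (z * z) * w⁻¹ by group, hz2, mul_one, mul_inv_cancel]
    rw [← Finset.mul_sum, Finset.sum_congr rfl fun k hk => by rw [inv_eq_of_mul_eq_one_right (hS2 k hk)],
      char_one_mul_sum_classes χ.2 _ (fun a k hk => conj_mem_conjSet a hk) g,
      Finset.sum_congr rfl (g := fun _ => (χ : G → ℂ) z) fun k hk => by
        obtain ⟨w, rfl⟩ := isConj_iff.mp (Finset.mem_filter.mp hk).2
        exact isClassFunction_of_isIrr χ.2 z w,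
      Finset.sum_const, nsmul_eq_mul]
    have hcard : ((conjSet z).card : ℂ) * (Nat.card (Subgroup.centralizer ({z} : Set G)) : ℂ) = Nat.card G := by
      rw [← Nat.cast_mul, ← card_isConj_mul_card_centralizer z, conjSet,
        show Nat.card {k // IsConj z k} = (Finset.univ.filter fun k => IsConj z k).card by
          rw [Nat.card_eq_fintype_card, Fintype.card_subtype]]
    have hC : (Nat.card (Subgroup.centralizer ({z} : Set G)) : ℂ) ≠ 0 := card_ne_zero'
    field_simp [card_ne_zero' (G := G)]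
    linear_combination ((χ : G → ℂ) g * (χ : G → ℂ) z) * hcard
  · simp

/-- The square. -/
theorem classConv_sq (B : Set (IrrCharacter G)) {z : G} (hz2 : z * z = 1) (g : G) :
    ∑ w : G, classConv B z w * classConv B z (w⁻¹ * g) =
      (Nat.card G : ℂ) / (Nat.card (Subgroup.centralizer ({z} : Set G)) : ℂ) ^ 2 *
        ∑ χ : IrrCharacter G,
          if χ ∈ B then (χ : G → ℂ) z ^ 2 * (χ : G → ℂ) g / (χ : G → ℂ) 1 else 0 := by
  set c : IrrCharacter G → ℂ := fun χ => if χ ∈ B then (χ : G → ℂ) z else 0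
  have ha : ∀ x, classConv B z x = (Nat.card (Subgroup.centralizer ({z} : Set G)) : ℂ)⁻¹ *
      ∑ χ : IrrCharacter G, c χ * (χ : G → ℂ) x := fun x => by
    rw [classConv_eq B hz2]
    exact congrArg _ (Finset.sum_congr rfl fun χ _ => by simp only [c]; split_ifs <;> simp)
  set K := (Nat.card (Subgroup.centralizer ({z} : Set G)) : ℂ)
  calc ∑ w : G, classConv B z w * classConv B z (w⁻¹ * g)
      = K⁻¹ ^ 2 * ∑ χ : IrrCharacter G, ∑ η : IrrCharacter G, c χ * c η *
          ∑ w : G, (χ : G → ℂ) w * (η : G → ℂ) (w⁻¹ * g) := by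
        simp only [ha, Finset.mul_sum, Finset.sum_mul]
        rw [Finset.sum_comm]
        refine (Finset.sum_congr rfl fun χ _ => Finset.sum_comm).trans ?_
        rw [Finset.sum_comm]
        exact Finset.sum_congr rfl fun χ _ => Finset.sum_congr rfl fun η _ =>
          Finset.sum_congr rfl fun w _ => by ring
    _ = _ := by
        simp only [CharBlocks.sum_mul_inv_mul, mul_ite, mul_zero, Finset.sum_ite_eq, Finset.mem_univ, if_true,
          Finset.mul_sum]
        refine Finset.sum_congr rfl fun χ _ => ?_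
        simp only [c]
        split_ifs
        · field_simp
        · simp

/-- The idempotent is idempotent, in coordinates. -/
theorem sum_blockCoeff_conv {B : Set (IrrCharacter G)} (hB : IsPBlock M B) (g : G) :
    ∑ u : G, blockCoeff B u * blockCoeff B (u⁻¹ * g) = blockCoeff B g := by
  have he : (blockElt B * blockElt B).coeff g = (blockElt B).coeff g :=
    congrArg (fun a : Zint M G => (a : CA G).coeff g) (idem_mul_self hB)
  rw [coeff_mul_eq_sum] at he
  simpa only [blockElt, coeff_ofFun] using he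

end classSum

end CfsgLib.DihDefect
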