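import Mathlib

/-!
# Integral vectors of norms three and four with inner products two

* `overlap_two`: two such vectors share exactly two coordinates, with equal signs;
* `shapes`: either they form a flower on two common coordinates, or there are three of them on five
  coordinates and a weighted cubic sum takes the value `32 / (3 d)`.
-/

set_option autoImplicit false

namespace CfsgLib.DihDefect

open scoped Classical

variable {α : Type*}

theorem unit_entries (S : Finset α) (f : α → ℤ) (hf : ∑ x ∈ S, f x * f x = 3) :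
    (∀ x ∈ S, f x = 0 ∨ f x = 1 ∨ f x = -1) ∧ (S.filter fun x => f x ≠ 0).card = 3 := by
  have h1 : ∀ x ∈ S, f x = 0 ∨ f x = 1 ∨ f x = -1 := fun x hx => by
    have := Finset.single_le_sum (f := fun x => f x * f x) (fun i _ => mul_self_nonneg (f i)) hx
    have h3 : f x * f x ≤ 3 := by linarith
    have : f x ≤ 1 := by nlinarith
    have : -1 ≤ f x := by nlinarith
    omega
  refine ⟨h1, ?_⟩
  have h2 : ∑ x ∈ S, f x * f x = ((S.filter fun x => f x ≠ 0).card : ℤ) := by
    rw [Finset.card_filter]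
    push_cast
    exact Finset.sum_congr rfl fun x hx => by rcases h1 x hx with e | e | e <;> simp [e]
  omega

/-- Overlap of a vector of norm three with a vector of entries `0, ±1`, of inner product two. -/
theorem overlap_two (S : Finset α) (f g : α → ℤ) (hf : ∑ x ∈ S, f x * f x = 3)
    (hg : ∀ x ∈ S, g x = 0 ∨ g x = 1 ∨ g x = -1) (hfg : ∑ x ∈ S, f x * g x = 2) :
    ((S.filter fun x => f x ≠ 0) ∩ (S.filter fun x => g x ≠ 0)).card = 2 ∧
      ∀ x ∈ S, f x ≠ 0 → g x ≠ 0 → g x = f x := by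
  obtain ⟨hf1, hf3⟩ := unit_entries S f hf
  set I := (S.filter fun x => f x ≠ 0) ∩ (S.filter fun x => g x ≠ 0) with hI
  have hle : I.card ≤ 3 := (Finset.card_le_card Finset.inter_subset_left).trans_eq hf3
  have hsum : ∑ x ∈ I, f x * g x = 2 := by
    rw [← hfg]
    refine Finset.sum_subset (fun x hx => (Finset.mem_filter.mp (Finset.mem_inter.mp hx).1).1)
      fun x hx hn => ?_
    by_contra hne
    exact hn (Finset.mem_inter.mpr ⟨Finset.mem_filter.mpr ⟨hx, left_ne_zero_of_mul hne⟩,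
      Finset.mem_filter.mpr ⟨hx, right_ne_zero_of_mul hne⟩⟩)
  have hterm : ∀ x ∈ I, 1 - f x * g x = 0 ∨ 1 - f x * g x = 2 := fun x hx => by
    obtain ⟨h1, h2⟩ := Finset.mem_inter.mp hx
    obtain ⟨hxS, hfx⟩ := Finset.mem_filter.mp h1
    obtain ⟨-, hgx⟩ := Finset.mem_filter.mp h2
    rcases hf1 x hxS with e | e | e <;> rcases hg x hxS with e' | e' | e' <;> simp_all
  have htot : ∑ x ∈ I, (1 - f x * g x) = (I.card : ℤ) - 2 := by
    rw [Finset.sum_sub_distrib, hsum, Finset.sum_const, nsmul_eq_mul, mul_one]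
  have h0 : ∀ x ∈ I, 1 - f x * g x = 0 := fun x hx => by
    refine (hterm x hx).resolve_right fun h => ?_
    have := Finset.single_le_sum (f := fun x => 1 - f x * g x)
      (fun y hy => by rcases hterm y hy with e | e <;> simp [e]) hx
    simp only [h] at this
    omega
  refine ⟨?_, fun x hx hfx hgx => ?_⟩
  · rw [Finset.sum_eq_zero h0] at htot
    omega
  · have := h0 x (Finset.mem_inter.mpr ⟨Finset.mem_filter.mpr ⟨hx, hfx⟩, Finset.mem_filter.mpr ⟨hx, hgx⟩⟩)
    rcases hf1 x hx with e | e | e <;> rcases hg x hx with e' | e' | e' <;>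
      first | exact absurd e hfx | exact absurd e' hgx | (rw [e, e'] at this ⊢ <;> omega)

theorem sum_five {M : Type*} [AddCommMonoid M] {a b c₀ c₁ c₂ : α} (h1 : a ≠ b) (h2 : a ≠ c₀) (h3 : a ≠ c₁)
    (h4 : a ≠ c₂) (h5 : b ≠ c₀) (h6 : b ≠ c₁) (h7 : b ≠ c₂) (h8 : c₀ ≠ c₁) (h9 : c₀ ≠ c₂) (h10 : c₁ ≠ c₂)
    (F : α → M) : ∑ x ∈ ({a, b, c₀, c₁, c₂} : Finset α), F x = F a + F b + F c₀ + F c₁ + F c₂ := by
  rw [Finset.sum_insert (by simp [h1, h2, h3, h4]), Finset.sum_insert (by simp [h5, h6, h7]),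
    Finset.sum_insert (by simp [h8, h9]), Finset.sum_pair h10]
  abel

/-- The value at the middle rotation and at the first one, in the exceptional case. -/
def excZ (v : Fin 3 → α → ℤ) (w : α → ℤ) (x : α) : ℤ := 2 * (-v 0 x + v 1 x - v 2 x) + w x

/-- See `excZ`. -/
def excR (v : Fin 3 → α → ℤ) (w : α → ℤ) (s : ℂ) (x : α) : ℂ := s * ((v 0 x : ℂ) - v 2 x) - w x

/-- The outcome of the exceptional case. -/
def Exceptional (S : Finset α) (v : Fin 3 → α → ℤ) (w : α → ℤ) : Prop :=
  S.card = 5 ∧ ∀ d : α → ℂ, (∀ x ∈ S, d x ≠ 0) → (∀ i, ∑ x ∈ S, (v i x : ℂ) * d x = 0) →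
    (∑ x ∈ S, (w x : ℂ) * d x = 0) → ∀ s : ℂ, ∃ x₁ ∈ S, Odd (w x₁) ∧
      (∑ x ∈ S, (excZ v w x : ℂ) ^ 2 * excR v w s x / d x) * excR v w s x₁ = 32 / (3 * d x₁)

theorem exceptional_core {S : Finset α} {v : Fin 3 → α → ℤ} {w : α → ℤ} {a b : α} {c : Fin 3 → α}
    (hab : a ≠ b) (hca : ∀ i, c i ≠ a) (hcb : ∀ i, c i ≠ b) (hc : Function.Injective c)
    (hS : S = {a, b, c 0, c 1, c 2}) {sa sb : ℤ} {ε : Fin 3 → ℤ} (hsa : sa = 1 ∨ sa = -1)
    (hsb : sb = 1 ∨ sb = -1) (hε : ∀ i, ε i = 1 ∨ ε i = -1)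
    (hva : ∀ i, v i a = sa) (hvb : ∀ i, v i b = sb) (hvc : ∀ i j, v i (c j) = if i = j then ε j else 0)
    (hwa : w a = sa) (hwb : w b = 0) (hwc : ∀ j, w (c j) = ε j) : Exceptional S v w := by
  have h5 := fun {M : Type} [AddCommMonoid M] (F : α → M) => sum_five (M := M) hab (hca 0).symm (hca 1).symm
    (hca 2).symm (hcb 0).symm (hcb 1).symm (hcb 2).symm (hc.ne (show (0 : Fin 3) ≠ 1 by decide))
    (hc.ne (show (0 : Fin 3) ≠ 2 by decide)) (hc.ne (show (1 : Fin 3) ≠ 2 by decide)) F
  refine ⟨?_, fun d hd hv hw s => ⟨c 1, by simp [hS], ?_, ?_⟩⟩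
  · rw [Finset.card_eq_sum_ones, hS, h5]
  · rw [hwc]; rcases hε 1 with e | e <;> simp [e]
  have e0 := hv 0
  have e1 := hv 1
  have e2 := hv 2
  rw [hS, h5] at e0 e1 e2 hw
  simp only [hva, hvb, hvc, hwa, hwb, hwc, show ((0 : Fin 3) = 1) = False by decide,
    show ((0 : Fin 3) = 2) = False by decide, show ((1 : Fin 3) = 0) = False by decide,
    show ((1 : Fin 3) = 2) = False by decide, show ((2 : Fin 3) = 0) = False by decide,
    show ((2 : Fin 3) = 1) = False by decide, if_true, if_false] at e0 e1 e2 hw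
  push_cast at e0 e1 e2 hw
  set C : ℂ := (ε 1 : ℂ) * d (c 1) with hC
  have hd1 : d (c 1) ≠ 0 := hd _ (by simp [hS])
  have hsq : ∀ {u : ℤ}, (u = 1 ∨ u = -1) → (u : ℂ) * u = 1 := fun h => by rcases h with e | e <;> simp [e]
  have hC0 : (ε 0 : ℂ) * d (c 0) = C := by rw [hC]; linear_combination e0 - e1
  have hC2 : (ε 2 : ℂ) * d (c 2) = C := by rw [hC]; linear_combination e2 - e1
  have hA : (sa : ℂ) * d a = -3 * C := by linear_combination hw - hC0 - hC2
  have hinv : ∀ {u : ℤ} {y z : ℂ}, (u = 1 ∨ u = -1) → (u : ℂ) * y = z → y = u * z := fun {u y z} h e => by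
    linear_combination (u : ℂ) * e - y * hsq h
  have hCne : C ≠ 0 := mul_ne_zero (by rcases hε 1 with e | e <;> simp [e]) hd1
  have hterm : ∀ {u : ℤ}, (u = 1 ∨ u = -1) → ∀ q r z : ℂ,
      ((u : ℂ) * q) ^ 2 * ((u : ℂ) * r) / ((u : ℂ) * z) = q ^ 2 * r / z := fun {u} h q r z => by
    rcases h with e | e <;> subst e <;> simp <;> ring
  have za : (excZ v w a : ℂ) = (sa : ℂ) * (-1 : ℂ) := by
    simp [excZ, hva, hwa] <;> ring
  have ra : excR v w s a = (sa : ℂ) * (-1 : ℂ) := by simp [excR, hva, hwa] <;> ring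
  have zb : (excZ v w b : ℂ) = (sb : ℂ) * (-2 : ℂ) := by simp [excZ, hvb, hwb] <;> ring
  have rb : excR v w s b = (sb : ℂ) * 0 := by simp [excR, hvb, hwb] <;> ring
  have z0 : (excZ v w (c 0) : ℂ) = (ε 0 : ℂ) * (-1 : ℂ) := by
    simp [excZ, hvc, hwc] <;> ring
  have r0 : excR v w s (c 0) = (ε 0 : ℂ) * (s - 1) := by simp [excR, hvc, hwc] <;> ring
  have z1 : (excZ v w (c 1) : ℂ) = (ε 1 : ℂ) * (3 : ℂ) := by
    simp [excZ, hvc, hwc] <;> ring
  have r1 : excR v w s (c 1) = (ε 1 : ℂ) * (-1 : ℂ) := by simp [excR, hvc, hwc] <;> ring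
  have z2 : (excZ v w (c 2) : ℂ) = (ε 2 : ℂ) * (-1 : ℂ) := by
    simp [excZ, hvc, hwc] <;> ring
  have r2 : excR v w s (c 2) = (ε 2 : ℂ) * (-s - 1) := by simp [excR, hvc, hwc] <;> ring
  rw [hS, h5, za, ra, zb, rb, z0, r0, z1, r1, z2, r2, hinv hsa hA, hinv (hε 0) hC0,
    hinv (hε 2) hC2, hinv (hε 1) hC.symm, hterm hsa, hterm (hε 0), hterm (hε 1), hterm (hε 2)]
  rcases hε 1 with e | e <;> simp only [e, Int.cast_one, Int.cast_neg] <;> field_simp <;> ring

theorem exceptional_tetra {S : Finset α} {v : Fin 3 → α → ℤ} {w : α → ℤ} {a b : α} {c : Fin 3 → α}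
    (hab : a ≠ b) (hca : ∀ i, c i ≠ a) (hcb : ∀ i, c i ≠ b) (hc : Function.Injective c)
    (hS : S = {a, b, c 0, c 1, c 2}) {sa sb : ℤ} {ε : Fin 3 → ℤ} (hsa : sa = 1 ∨ sa = -1)
    (hsb : sb = 1 ∨ sb = -1) (hε : ∀ i, ε i = 1 ∨ ε i = -1)
    (hva : ∀ i, v i a = 0) (hvb : ∀ i, v i b = sb) (hvc : ∀ i j, v i (c j) = if i = j then 0 else ε j)
    (hwa : w a = sa) (hwb : w b = 0) (hwc : ∀ j, w (c j) = ε j) : Exceptional S v w := by
  have h5 := fun {M : Type} [AddCommMonoid M] (F : α → M) => sum_five (M := M) hab (hca 0).symm (hca 1).symm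
    (hca 2).symm (hcb 0).symm (hcb 1).symm (hcb 2).symm (hc.ne (show (0 : Fin 3) ≠ 1 by decide))
    (hc.ne (show (0 : Fin 3) ≠ 2 by decide)) (hc.ne (show (1 : Fin 3) ≠ 2 by decide)) F
  refine ⟨?_, fun d hd hv hw s => ⟨c 1, by simp [hS], ?_, ?_⟩⟩
  · rw [Finset.card_eq_sum_ones, hS, h5]
  · rw [hwc]; rcases hε 1 with e | e <;> simp [e]
  have e0 := hv 0
  have e1 := hv 1
  have e2 := hv 2
  rw [hS, h5] at e0 e1 e2 hw
  simp only [hva, hvb, hvc, hwa, hwb, hwc, show ((0 : Fin 3) = 1) = False by decide,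
    show ((0 : Fin 3) = 2) = False by decide, show ((1 : Fin 3) = 0) = False by decide,
    show ((1 : Fin 3) = 2) = False by decide, show ((2 : Fin 3) = 0) = False by decide,
    show ((2 : Fin 3) = 1) = False by decide, if_true, if_false] at e0 e1 e2 hw
  push_cast at e0 e1 e2 hw
  set P : ℂ := (ε 1 : ℂ) * d (c 1) with hP
  have hd1 : d (c 1) ≠ 0 := hd _ (by simp [hS])
  have hsq : ∀ {u : ℤ}, (u = 1 ∨ u = -1) → (u : ℂ) * u = 1 := fun h => by rcases h with e | e <;> simp [e]
  have hP0 : (ε 0 : ℂ) * d (c 0) = P := by rw [hP]; linear_combination e1 - e0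
  have hP2 : (ε 2 : ℂ) * d (c 2) = P := by rw [hP]; linear_combination e1 - e2
  have hA : (sa : ℂ) * d a = -3 * P := by linear_combination hw - hP0 - hP2
  have hinv : ∀ {u : ℤ} {y z : ℂ}, (u = 1 ∨ u = -1) → (u : ℂ) * y = z → y = u * z := fun {u y z} h e => by
    linear_combination (u : ℂ) * e - y * hsq h
  have hPne : P ≠ 0 := mul_ne_zero (by rcases hε 1 with e | e <;> simp [e]) hd1
  have hterm : ∀ {u : ℤ}, (u = 1 ∨ u = -1) → ∀ q r z : ℂ,
      ((u : ℂ) * q) ^ 2 * ((u : ℂ) * r) / ((u : ℂ) * z) = q ^ 2 * r / z := fun {u} h q r z => by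
    rcases h with e | e <;> subst e <;> simp <;> ring
  have za : (excZ v w a : ℂ) = (sa : ℂ) * (1 : ℂ) := by
    simp [excZ, hva, hwa] <;> ring
  have ra : excR v w s a = (sa : ℂ) * (-1 : ℂ) := by simp [excR, hva, hwa] <;> ring
  have zb : (excZ v w b : ℂ) = (sb : ℂ) * (-2 : ℂ) := by simp [excZ, hvb, hwb] <;> ring
  have rb : excR v w s b = (sb : ℂ) * 0 := by simp [excR, hvb, hwb] <;> ring
  have z0 : (excZ v w (c 0) : ℂ) = (ε 0 : ℂ) * (1 : ℂ) := by
    simp [excZ, hvc, hwc] <;> ring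
  have r0 : excR v w s (c 0) = (ε 0 : ℂ) * (-s - 1) := by simp [excR, hvc, hwc] <;> ring
  have z1 : (excZ v w (c 1) : ℂ) = (ε 1 : ℂ) * (-3 : ℂ) := by
    simp [excZ, hvc, hwc] <;> ring
  have r1 : excR v w s (c 1) = (ε 1 : ℂ) * (-1 : ℂ) := by simp [excR, hvc, hwc] <;> ring
  have z2 : (excZ v w (c 2) : ℂ) = (ε 2 : ℂ) * (1 : ℂ) := by
    simp [excZ, hvc, hwc] <;> ring
  have r2 : excR v w s (c 2) = (ε 2 : ℂ) * (s - 1) := by simp [excR, hvc, hwc] <;> ring
  rw [hS, h5, za, ra, zb, rb, z0, r0, z1, r1, z2, r2, hinv hsa hA, hinv (hε 0) hP0,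
    hinv (hε 2) hP2, hinv (hε 1) hP.symm, hterm hsa, hterm (hε 0), hterm (hε 1), hterm (hε 2)]
  rcases hε 1 with e | e <;> simp only [e, Int.cast_one, Int.cast_neg] <;> field_simp <;> ring

/-- **The shapes.** -/
theorem shapes (S : Finset α) {t : ℕ} (ht : Odd t) (v : Fin t → α → ℤ) (w : α → ℤ)
    (hvv : ∀ i j, ∑ x ∈ S, v i x * v j x = if i = j then 3 else 2)
    (hvw : ∀ i, ∑ x ∈ S, v i x * w x = 2) (hww : ∑ x ∈ S, w x * w x = 4) (hwo : ∃ x ∈ S, Odd (w x))
    (hcov : ∀ x ∈ S, w x ≠ 0 ∨ ∃ i, v i x ≠ 0) :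
    (∀ x ∈ S, w x = 0 ∨ w x = 1 ∨ w x = -1) ∧ (S.filter fun x => w x ≠ 0).card = 4 ∧
      ((S.card = t + 4 ∧ ∀ x ∈ S, w x = 0 → ∃ i, (v i x = 1 ∨ v i x = -1) ∧ ∀ j, j ≠ i → v j x = 0) ∨
        ∃ h : t = 3, Exceptional S (fun i => v (Fin.cast h.symm i)) w) := by
  -- the entries of `w`
  have hw1 : ∀ x ∈ S, w x = 0 ∨ w x = 1 ∨ w x = -1 := by
    obtain ⟨x₀, hx₀, k, hk⟩ := hwo
    intro x hx
    have h0 := Finset.single_le_sum (f := fun x => w x * w x) (fun i _ => mul_self_nonneg (w i)) hx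
    have h1 : w x * w x ≤ 4 := by linarith
    by_cases hxx : x = x₀
    · subst hxx
      have : w x ≤ 2 := by nlinarith
      have : -2 ≤ w x := by nlinarith
      omega
    · have h2 := Finset.add_le_sum (f := fun x => w x * w x) (fun i _ => mul_self_nonneg (w i)) hx hx₀ hxx
      have h3 : 1 ≤ w x₀ * w x₀ := by nlinarith [mul_self_pos.mpr (show w x₀ ≠ 0 by omega)]
      have h4 : w x * w x ≤ 3 := by linarith
      have : w x ≤ 1 := by nlinarith
      have : -1 ≤ w x := by nlinarith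
      omega
  set W := S.filter fun x => w x ≠ 0 with hW
  have hWc : W.card = 4 := by
    have h2 : ∑ x ∈ S, w x * w x = (W.card : ℤ) := by
      rw [hW, Finset.card_filter]
      push_cast
      exact Finset.sum_congr rfl fun x hx => by rcases hw1 x hx with e | e | e <;> simp [e]
    omega
  refine ⟨hw1, hWc, ?_⟩
  have hv3 : ∀ i, ∑ x ∈ S, v i x * v i x = 3 := fun i => by simpa using hvv i i
  have hv1 := fun i => (unit_entries S (v i) (hv3 i)).1
  set Sv : Fin t → Finset α := fun i => S.filter fun x => v i x ≠ 0 with hSv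
  have hSvc : ∀ i, (Sv i).card = 3 := fun i => (unit_entries S (v i) (hv3 i)).2
  have hmem : ∀ {i x}, x ∈ Sv i ↔ x ∈ S ∧ v i x ≠ 0 := fun {i x} => by simp [hSv]
  have hmW : ∀ {x}, x ∈ W ↔ x ∈ S ∧ w x ≠ 0 := fun {x} => by simp [hW]
  have hovW : ∀ i, (Sv i ∩ W).card = 2 ∧ ∀ x ∈ S, v i x ≠ 0 → w x ≠ 0 → w x = v i x := fun i =>
    overlap_two S (v i) w (hv3 i) hw1 (hvw i)
  have hov : ∀ i j, i ≠ j → (Sv i ∩ Sv j).card = 2 ∧
      ∀ x ∈ S, v i x ≠ 0 → v j x ≠ 0 → v j x = v i x := fun i j hij =>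
    overlap_two S (v i) (v j) (hv3 i) (hv1 j) (by rw [hvv, if_neg hij])
  have hinjS : ∀ i j, Sv i = Sv j → i = j := fun i j h => by
    by_contra hne
    have := (hov i j hne).1
    rw [h, Finset.inter_self, hSvc] at this
    omega
  have hval0 : ∀ {i x}, x ∈ S → x ∉ Sv i → v i x = 0 := fun {i x} hx hn => by
    by_contra h; exact hn (hmem.mpr ⟨hx, h⟩)
  have hwval0 : ∀ {x}, x ∈ S → x ∉ W → w x = 0 := fun {x} hx hn => by
    by_contra h; exact hn (hmW.mpr ⟨hx, h⟩)
  have htpos := ht.pos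
  let i₀ : Fin t := ⟨0, htpos⟩
  rcases (show t = 1 ∨ 2 ≤ t by omega) with h1 | h2
  · left
    have hall : ∀ i, i = i₀ := fun i => Fin.ext (by have := i.2; show (i : ℕ) = 0; omega)
    have hS' : S = Sv i₀ ∪ W := by
      ext x
      simp only [Finset.mem_union, hmem, hmW]
      refine ⟨fun hx => ?_, fun h => h.elim And.left And.left⟩
      rcases hcov x hx with h | ⟨i, hi⟩
      · exact Or.inr ⟨hx, h⟩
      · exact Or.inl ⟨hx, by rwa [hall i] at hi⟩
    refine ⟨?_, fun x hx h0 => ⟨i₀, ?_, fun j hj => absurd (hall j) hj⟩⟩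
    · have := Finset.card_union_add_card_inter (Sv i₀) W
      rw [← hS', hSvc, hWc, (hovW i₀).1] at this
      omega
    · rcases hcov x hx with h | ⟨i, hi⟩
      · exact absurd h0 h
      · rw [hall i] at hi
        exact (hv1 i₀ x hx).resolve_left hi
  let i₁ : Fin t := ⟨1, by omega⟩
  have h01 : i₀ ≠ i₁ := fun h => by simp [i₀, i₁, Fin.ext_iff] at h
  obtain ⟨hAc, -⟩ := hov i₀ i₁ h01
  obtain ⟨a, b, hab, hA⟩ := Finset.card_eq_two.mp hAc
  have ha0 : a ∈ Sv i₀ := (Finset.mem_inter.mp (hA ▸ Finset.mem_insert_self a {b})).1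
  have ha1 : a ∈ Sv i₁ := (Finset.mem_inter.mp (hA ▸ Finset.mem_insert_self a {b})).2
  have hb0 : b ∈ Sv i₀ :=
    (Finset.mem_inter.mp (hA ▸ Finset.mem_insert_of_mem (Finset.mem_singleton_self b))).1
  have hb1 : b ∈ Sv i₁ :=
    (Finset.mem_inter.mp (hA ▸ Finset.mem_insert_of_mem (Finset.mem_singleton_self b))).2
  have htip : ∀ i, a ∈ Sv i → b ∈ Sv i → ∃ c, c ≠ a ∧ c ≠ b ∧ Sv i = {a, b, c} := fun i ha hb => by
    obtain ⟨c, hc⟩ := Finset.card_eq_one.mp (show ((Sv i).erase a |>.erase b).card = 1 by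
      rw [Finset.card_erase_of_mem (Finset.mem_erase.mpr ⟨hab.symm, hb⟩), Finset.card_erase_of_mem ha, hSvc])
    have hc' := hc ▸ Finset.mem_singleton_self c
    simp only [Finset.mem_erase] at hc'
    refine ⟨c, hc'.2.1, hc'.1, (Finset.eq_of_subset_of_card_le ?_ ?_).symm⟩
    · intro x hx
      simp only [Finset.mem_insert, Finset.mem_singleton] at hx
      rcases hx with rfl | rfl | rfl
      · exact ha
      · exact hb
      · exact hc'.2.2
    · rw [hSvc, Finset.card_insert_of_notMem (by simp [hab, hc'.2.1.symm]), Finset.card_pair hc'.1.symm]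
  by_cases hcore : ∀ i, a ∈ Sv i ∧ b ∈ Sv i
  · choose c hca hcb hc using fun i => htip i (hcore i).1 (hcore i).2
    have hcinj : Function.Injective c := fun i j h => hinjS i j (by rw [hc, hc, h])
    have haS : a ∈ S := (hmem.mp ha0).1
    have hbS : b ∈ S := (hmem.mp hb0).1
    have hcS : ∀ i, c i ∈ S := fun i => (hmem.mp (show c i ∈ Sv i by rw [hc]; simp)).1
    have hdec : ∀ i, (if a ∈ W then 1 else 0) + (if b ∈ W then 1 else 0) + (if c i ∈ W then 1 else 0) = (2 : ℕ) :=
      fun i => by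
        rw [← (hovW i).1, ← Finset.filter_mem_eq_inter, Finset.card_filter, hc i,
          Finset.sum_insert (by simp [hab, (hca i).symm]), Finset.sum_pair (hcb i).symm, add_assoc]
    have hsub : ∀ x ∈ S, x = a ∨ x = b ∨ (∃ i, x = c i) ∨ x ∈ W := fun x hx => by
      rcases hcov x hx with h | ⟨i, hi⟩
      · exact Or.inr (Or.inr (Or.inr (hmW.mpr ⟨hx, h⟩)))
      · have hxi := hmem.mpr ⟨hx, hi⟩
        rw [hc, Finset.mem_insert, Finset.mem_insert, Finset.mem_singleton] at hxi
        rcases hxi with e | e | e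
        · exact Or.inl e
        · exact Or.inr (Or.inl e)
        · exact Or.inr (Or.inr (Or.inl ⟨i, e⟩))
    have hoth : ∀ i j, i ≠ j → c j ∉ Sv i := fun i j hij h => by
      rw [hc, Finset.mem_insert, Finset.mem_insert, Finset.mem_singleton] at h
      rcases h with e | e | e
      · exact hca j e
      · exact hcb j e
      · exact hij (hcinj e).symm
    by_cases hW0 : ∃ i, c i ∉ W
    · obtain ⟨k, hk⟩ := hW0
      have hk2 := hdec k
      rw [if_neg hk] at hk2
      have haW : a ∈ W := by by_contra h; rw [if_neg h] at hk2; split_ifs at hk2 <;> omega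
      have hbW : b ∈ W := by by_contra h; rw [if_neg h, if_pos haW] at hk2; omega
      have hcW : ∀ i, c i ∉ W := fun i h => by
        have := hdec i
        rw [if_pos haW, if_pos hbW, if_pos h] at this
        omega
      left
      refine ⟨?_, fun x hx h0 => ?_⟩
      · have hSeq : S = W ∪ Finset.univ.image c := by
          ext x
          simp only [Finset.mem_union, Finset.mem_image, Finset.mem_univ, true_and]
          refine ⟨fun hx => ?_, fun h => ?_⟩
          · rcases hsub x hx with rfl | rfl | ⟨i, rfl⟩ | h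
            · exact Or.inl haW
            · exact Or.inl hbW
            · exact Or.inr ⟨i, rfl⟩
            · exact Or.inl h
          · rcases h with h | ⟨i, rfl⟩
            · exact (hmW.mp h).1
            · exact hcS i
        rw [hSeq, Finset.card_union_of_disjoint (Finset.disjoint_left.mpr fun x hx hx' => by
            obtain ⟨i, -, rfl⟩ := Finset.mem_image.mp hx'
            exact hcW i hx),
          Finset.card_image_of_injective _ hcinj, hWc, Finset.card_univ, Fintype.card_fin]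
        omega
      · rcases hsub x hx with rfl | rfl | ⟨i, rfl⟩ | h
        · exact absurd h0 (hmW.mp haW).2
        · exact absurd h0 (hmW.mp hbW).2
        · refine ⟨i, (hv1 i _ hx).resolve_left (hmem.mp (show c i ∈ Sv i by rw [hc]; simp)).2, fun j hj => ?_⟩
          exact hval0 hx (hoth j i hj)
        · exact absurd h0 (hmW.mp h).2
    · push Not at hW0
      right
      have h1W := hdec i₀
      rw [if_pos (hW0 i₀)] at h1W
      obtain ⟨a', b', hab', hpair, haW, hbW⟩ : ∃ a' b', a' ≠ b' ∧ ({a', b'} : Finset α) = {a, b} ∧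
          a' ∈ W ∧ b' ∉ W := by
        by_cases h : a ∈ W
        · exact ⟨a, b, hab, rfl, h, fun hb => by rw [if_pos h, if_pos hb] at h1W; omega⟩
        · refine ⟨b, a, hab.symm, Finset.pair_comm b a, ?_, h⟩
          by_contra hb
          rw [if_neg h, if_neg hb] at h1W
          omega
      have hca' : ∀ i, c i ≠ a' := fun i e => by
        have : c i ∈ ({a, b} : Finset α) := hpair ▸ (e ▸ Finset.mem_insert_self a' {b'})
        simp [hca i, hcb i] at this
      have hcb' : ∀ i, c i ≠ b' := fun i e => hbW (e ▸ hW0 i)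
      have hab'' : ∀ i, a' ∈ Sv i ∧ b' ∈ Sv i := fun i => by
        have h1 : a' ∈ ({a, b} : Finset α) := hpair ▸ Finset.mem_insert_self a' {b'}
        have h2 : b' ∈ ({a, b} : Finset α) := hpair ▸ Finset.mem_insert_of_mem (Finset.mem_singleton_self b')
        rw [hc]
        simp only [Finset.mem_insert, Finset.mem_singleton] at h1 h2 ⊢
        tauto
      have ht3 : t = 3 := by
        have hs : insert a' (Finset.univ.image c) ⊆ W := fun x hx => by
          rcases Finset.mem_insert.mp hx with rfl | hx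
          · exact haW
          · obtain ⟨i, -, rfl⟩ := Finset.mem_image.mp hx; exact hW0 i
        have := Finset.card_le_card hs
        rw [Finset.card_insert_of_notMem (fun h => by
            obtain ⟨i, -, e⟩ := Finset.mem_image.mp h; exact hca' i e),
          Finset.card_image_of_injective _ hcinj, Finset.card_univ, Fintype.card_fin, hWc] at this
        obtain ⟨j, hj⟩ := ht
        omega
      subst ht3
      refine ⟨rfl, ?_⟩
      simp only [Fin.cast_eq_self]
      have hWeq : W = insert a' (Finset.univ.image c) := by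
        refine (Finset.eq_of_subset_of_card_le (fun x hx => ?_) ?_).symm
        · rcases Finset.mem_insert.mp hx with rfl | hx
          · exact haW
          · obtain ⟨i, -, rfl⟩ := Finset.mem_image.mp hx; exact hW0 i
        · rw [Finset.card_insert_of_notMem (fun h => by
              obtain ⟨i, -, e⟩ := Finset.mem_image.mp h; exact hca' i e),
            Finset.card_image_of_injective _ hcinj, Finset.card_univ, Fintype.card_fin, hWc]
      have hS' : S = {a', b', c 0, c 1, c 2} := by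
        ext x
        simp only [Finset.mem_insert, Finset.mem_singleton]
        refine ⟨fun hx => ?_, fun h => ?_⟩
        · have h : x ∈ ({a', b'} : Finset α) ∨ (∃ i, x = c i) := by
            rcases hsub x hx with rfl | rfl | h | h
            · exact Or.inl (hpair ▸ Finset.mem_insert_self _ _)
            · exact Or.inl (hpair ▸ Finset.mem_insert_of_mem (Finset.mem_singleton_self _))
            · exact Or.inr h
            · rw [hWeq, Finset.mem_insert, Finset.mem_image] at h
              rcases h with rfl | ⟨i, -, rfl⟩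
              · exact Or.inl (Finset.mem_insert_self _ _)
              · exact Or.inr ⟨i, rfl⟩
          rcases h with h | ⟨i, rfl⟩
          · simp only [Finset.mem_insert, Finset.mem_singleton] at h; tauto
          · fin_cases i <;> tauto
        · rcases h with rfl | rfl | rfl | rfl | rfl
          · exact (hmW.mp haW).1
          · exact (hmem.mp (hab'' i₀).2).1
          all_goals exact hcS _
      refine exceptional_core hab' hca' hcb' hcinj hS' (sa := w a') (sb := v i₀ b') (ε := fun i => w (c i))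
        ((hw1 _ (hmW.mp haW).1).resolve_left (hmW.mp haW).2)
        ((hv1 _ _ (hmem.mp (hab'' i₀).2).1).resolve_left (hmem.mp (hab'' i₀).2).2)
        (fun i => (hw1 _ (hcS i)).resolve_left (hmW.mp (hW0 i)).2)
        (fun i => ((hovW i).2 _ (hmW.mp haW).1 (hmem.mp (hab'' i).1).2 (hmW.mp haW).2).symm)
        (fun i => ?_) (fun i j => ?_) rfl (hwval0 (hmem.mp (hab'' i₀).2).1 hbW) (fun j => rfl)
      · by_cases hi : i₀ = i
        · rw [hi]
        · exact (hov i₀ i hi).2 _ (hmem.mp (hab'' i).2).1 (hmem.mp (hab'' i₀).2).2 (hmem.mp (hab'' i).2).2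
      · split_ifs with hij
        · subst hij
          exact ((hovW i).2 _ (hcS i) (hmem.mp (show c i ∈ Sv i by rw [hc]; simp)).2 (hmW.mp (hW0 i)).2).symm
        · exact hval0 (hcS j) (hoth i j hij)
  · -- all supports in four points
    push Not at hcore
    obtain ⟨k, hk⟩ := hcore
    obtain ⟨c₀, hc0a, hc0b, hc0⟩ := htip i₀ ha0 hb0
    obtain ⟨c₁, hc1a, hc1b, hc1⟩ := htip i₁ ha1 hb1
    have hc01 : c₀ ≠ c₁ := fun h => h01 (hinjS _ _ (by rw [hc0, hc1, h]))
    have hshape : ∀ l, ¬ (a ∈ Sv l ∧ b ∈ Sv l) →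
        Sv l = {b, c₀, c₁} ∨ Sv l = {a, c₀, c₁} := fun l hl => by
      have h0 : i₀ ≠ l := fun h => hl (h ▸ ⟨ha0, hb0⟩)
      have h1 : i₁ ≠ l := fun h => hl (h ▸ ⟨ha1, hb1⟩)
      have e0 := (hov i₀ l h0).1
      have e1 := (hov i₁ l h1).1
      change (Sv i₀ ∩ Sv l).card = 2 at e0
      change (Sv i₁ ∩ Sv l).card = 2 at e1
      rw [← Finset.filter_mem_eq_inter, hc0, Finset.card_filter,
        Finset.sum_insert (by simp [hab, hc0a.symm]), Finset.sum_pair hc0b.symm] at e0
      rw [← Finset.filter_mem_eq_inter, hc1, Finset.card_filter,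
        Finset.sum_insert (by simp [hab, hc1a.symm]), Finset.sum_pair hc1b.symm] at e1
      have hc0l : c₀ ∈ Sv l := by
        by_contra h; rw [if_neg h] at e0; split_ifs at e0 <;> first | omega | tauto
      have hc1l : c₁ ∈ Sv l := by
        by_contra h; rw [if_neg h] at e1; split_ifs at e1 <;> first | omega | tauto
      by_cases ha : a ∈ Sv l
      · refine Or.inr (Finset.eq_of_subset_of_card_le ?_ ?_).symm
        · intro x hx
          simp only [Finset.mem_insert, Finset.mem_singleton] at hx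
          rcases hx with rfl | rfl | rfl <;> assumption
        · rw [hSvc, Finset.card_insert_of_notMem (by simp [hc0a.symm, hc1a.symm]), Finset.card_pair hc01]
      · have hb : b ∈ Sv l := by
          by_contra h; rw [if_neg ha, if_neg h, if_pos hc0l] at e0; omega
        refine Or.inl (Finset.eq_of_subset_of_card_le ?_ ?_).symm
        · intro x hx
          simp only [Finset.mem_insert, Finset.mem_singleton] at hx
          rcases hx with rfl | rfl | rfl <;> assumption
        · rw [hSvc, Finset.card_insert_of_notMem (by simp [hc0b.symm, hc1b.symm]), Finset.card_pair hc01]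
    have hk0 : i₀ ≠ k := fun h => hk (h ▸ ha0) (h ▸ hb0)
    have hk1 : i₁ ≠ k := fun h => hk (h ▸ ha1) (h ▸ hb1)
    have hsome : ∀ l, l = i₀ ∨ l = i₁ ∨ Sv l = {b, c₀, c₁} ∨ Sv l = {a, c₀, c₁} := fun l => by
      by_cases hl : a ∈ Sv l ∧ b ∈ Sv l
      · obtain ⟨c, hca, hcb, hc⟩ := htip l hl.1 hl.2
        have hkl : l ≠ k := fun h => hk (h ▸ hl.1) (h ▸ hl.2)
        have e := (hov l k hkl).1
        change (Sv l ∩ Sv k).card = 2 at e
        have hcmem : c ∈ Sv k := by
          by_contra h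
          rw [← Finset.filter_mem_eq_inter, hc, Finset.card_filter,
            Finset.sum_insert (by simp [hab, hca.symm]), Finset.sum_pair hcb.symm, if_neg h] at e
          split_ifs at e with h1 h2 <;> first | omega | exact hk h1 h2
        have : c = c₀ ∨ c = c₁ := by
          rcases hshape k (fun h => hk h.1 h.2) with e' | e' <;>
            rw [e', Finset.mem_insert, Finset.mem_insert, Finset.mem_singleton] at hcmem <;> tauto
        rcases this with rfl | rfl
        · exact Or.inl (hinjS _ _ (by rw [hc, hc0]))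
        · exact Or.inr (Or.inl (hinjS _ _ (by rw [hc, hc1])))
      · exact Or.inr (Or.inr (hshape l hl))
    have hle : t ≤ 4 := by
      have hinj' : Function.Injective Sv := fun i j => hinjS i j
      have hs : Finset.univ.image Sv ⊆
          ({Sv i₀, Sv i₁, {b, c₀, c₁}, {a, c₀, c₁}} : Finset (Finset α)) := fun T hT => by
        obtain ⟨l, -, rfl⟩ := Finset.mem_image.mp hT
        simp only [Finset.mem_insert, Finset.mem_singleton]
        rcases hsome l with rfl | rfl | h | h <;> tauto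
      have := (Finset.card_le_card hs).trans Finset.card_le_four
      rwa [Finset.card_image_of_injective _ hinj', Finset.card_univ, Fintype.card_fin] at this
    have ht3 : t = 3 := by obtain ⟨j, hj⟩ := ht; omega
    subst ht3
    right
    refine ⟨rfl, ?_⟩
    simp only [Fin.cast_eq_self]
    have hk2 : k = 2 := by
      have h0' : (k : ℕ) ≠ 0 := fun h => hk0 (Fin.ext h.symm)
      have h1' : (k : ℕ) ≠ 1 := fun h => hk1 (Fin.ext h.symm)
      exact Fin.ext (by have := k.2; show (k : ℕ) = 2; omega)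
    obtain ⟨p, q, hpq, hpc0, hpc1, hqc0, hqc1, hpair, hkq⟩ : ∃ p q, p ≠ q ∧ p ≠ c₀ ∧ p ≠ c₁ ∧ q ≠ c₀ ∧ q ≠ c₁ ∧
        ({p, q} : Finset α) = {a, b} ∧ Sv k = {q, c₀, c₁} := by
      rcases hshape k (fun h => hk h.1 h.2) with h | h
      · exact ⟨a, b, hab, hc0a.symm, hc1a.symm, hc0b.symm, hc1b.symm, rfl, h⟩
      · exact ⟨b, a, hab.symm, hc0b.symm, hc1b.symm, hc0a.symm, hc1a.symm, Finset.pair_comm b a, h⟩
    have hcases : ∀ {x}, x ∈ ({a, b} : Finset α) ↔ x = p ∨ x = q := fun {x} => by rw [← hpair]; simp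
    have hm0 : ∀ {x}, x ∈ Sv i₀ ↔ x = p ∨ x = q ∨ x = c₀ := fun {x} => by
      rw [hc0, ← or_assoc, ← hcases]; simp [or_assoc]
    have hm1 : ∀ {x}, x ∈ Sv i₁ ↔ x = p ∨ x = q ∨ x = c₁ := fun {x} => by
      rw [hc1, ← or_assoc, ← hcases]; simp [or_assoc]
    have hm2 : ∀ {x}, x ∈ Sv k ↔ x = q ∨ x = c₀ ∨ x = c₁ := fun {x} => by rw [hkq]; simp
    let cc : Fin 3 → α := ![c₁, c₀, p]
    have hi0 : i₀ = 0 := Fin.ext rfl
    have hi1 : i₁ = 1 := Fin.ext rfl
    rw [hi0] at hm0
    rw [hi1] at hm1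
    rw [hk2] at hm2
    have hccS : ∀ i j, i ≠ j → cc j ∈ Sv i := fun i j hij => by
      fin_cases i <;> fin_cases j <;> first | exact absurd rfl hij | simp [cc, hm0, hm1, hm2]
    have hccN : ∀ i, cc i ∉ Sv i := fun i => by
      fin_cases i <;> simp [cc, hm0, hm1, hm2, hc01, hc01.symm, hpc0, hpc1, hqc0.symm, hqc1.symm,
        hpc0.symm, hpc1.symm, hpq]
    have hqS : ∀ i, q ∈ Sv i := fun i => by fin_cases i <;> simp [hm0, hm1, hm2]
    have hccinj : Function.Injective cc := fun i j h => by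
      fin_cases i <;> fin_cases j <;>
        simp [cc, hc01, hc01.symm, hpc0, hpc0.symm, hpc1, hpc1.symm] at h ⊢
    have hsupp : ∀ i x, x ∈ Sv i → x = q ∨ ∃ j, x = cc j := fun i x hx => by
      fin_cases i <;>
        simp only [Fin.zero_eta, Fin.mk_one, Fin.reduceFinMk, hm0, hm1, hm2] at hx <;>
        rcases hx with rfl | rfl | rfl <;>
        first
          | exact Or.inl rfl
          | exact Or.inr ⟨0, rfl⟩
          | exact Or.inr ⟨1, rfl⟩
          | exact Or.inr ⟨2, rfl⟩
    have hSvi : ∀ i, Sv i = insert q ((Finset.univ.erase i).image cc) := fun i => by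
      refine Finset.ext fun x => ?_
      simp only [Finset.mem_insert, Finset.mem_image, Finset.mem_erase, Finset.mem_univ, and_true]
      refine ⟨fun hx => ?_, fun h => ?_⟩
      · rcases hsupp i x hx with rfl | ⟨j, rfl⟩
        · exact Or.inl rfl
        · exact Or.inr ⟨j, fun e => hccN i (e ▸ hx), rfl⟩
      · rcases h with rfl | ⟨j, hj, rfl⟩
        · exact hqS i
        · exact hccS i j (Ne.symm hj)
    have hcnt : ∀ i, (if q ∈ W then 1 else 0) + ∑ j ∈ Finset.univ.erase i, (if cc j ∈ W then 1 else 0) = (2 : ℕ) :=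
      fun i => by
        rw [← (hovW i).1, ← Finset.filter_mem_eq_inter, Finset.card_filter, hSvi i, Finset.sum_insert,
          Finset.sum_image fun x _ y _ h => hccinj h]
        simp only [Finset.mem_image, Finset.mem_erase, Finset.mem_univ, and_true, not_exists, not_and]
        intro j _ e
        exact hccN j (e ▸ hqS j)
    have hWcc : (∀ j, cc j ∈ W) ∧ q ∉ W := by
      have e0 := hcnt 0
      have e1 := hcnt 1
      have e2 := hcnt 2
      rw [show (Finset.univ : Finset (Fin 3)).erase 0 = {1, 2} by decide, Finset.sum_pair (by decide)] at e0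
      rw [show (Finset.univ : Finset (Fin 3)).erase 1 = {0, 2} by decide, Finset.sum_pair (by decide)] at e1
      rw [show (Finset.univ : Finset (Fin 3)).erase 2 = {0, 1} by decide, Finset.sum_pair (by decide)] at e2
      by_cases h0 : cc 0 ∈ W <;> by_cases h1 : cc 1 ∈ W <;> by_cases h2 : cc 2 ∈ W <;> by_cases hq : q ∈ W <;>
        simp [h0, h1, h2, hq] at e0 e1 e2 ⊢
      all_goals
        intro j
        fin_cases j <;> assumption
    obtain ⟨e, he⟩ := Finset.card_eq_one.mp (show (W \ Finset.univ.image cc).card = 1 by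
      rw [Finset.card_sdiff_of_subset (fun x hx => by
          obtain ⟨j, -, rfl⟩ := Finset.mem_image.mp hx; exact hWcc.1 j),
        Finset.card_image_of_injective _ hccinj, Finset.card_univ, Fintype.card_fin, hWc])
    have heW : e ∈ W ∧ e ∉ Finset.univ.image cc := Finset.mem_sdiff.mp (he ▸ Finset.mem_singleton_self e)
    have hec : ∀ j, cc j ≠ e := fun j h => heW.2 (Finset.mem_image.mpr ⟨j, Finset.mem_univ _, h⟩)
    have heq : e ≠ q := fun h => hWcc.2 (h ▸ heW.1)
    have heV : ∀ i, e ∉ Sv i := fun i h => by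
      rcases hsupp i e h with h' | ⟨j, h'⟩
      · exact heq h'
      · exact hec j h'.symm
    have hS' : S = {e, q, cc 0, cc 1, cc 2} := by
      ext x
      simp only [Finset.mem_insert, Finset.mem_singleton]
      refine ⟨fun hx => ?_, fun h => ?_⟩
      · have h' : x = e ∨ x = q ∨ ∃ j, x = cc j := by
          rcases hcov x hx with h | ⟨i, hi⟩
          · by_cases hj : x ∈ Finset.univ.image cc
            · obtain ⟨j, -, rfl⟩ := Finset.mem_image.mp hj; exact Or.inr (Or.inr ⟨j, rfl⟩)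
            · exact Or.inl (Finset.mem_singleton.mp (he ▸ Finset.mem_sdiff.mpr ⟨hmW.mpr ⟨hx, h⟩, hj⟩))
          · exact Or.inr (hsupp i x (hmem.mpr ⟨hx, hi⟩))
        rcases h' with h | h | ⟨j, rfl⟩
        · tauto
        · tauto
        · fin_cases j <;> tauto
      · rcases h with h | h | h | h | h
        · exact h ▸ (hmW.mp heW.1).1
        · exact h ▸ (hmem.mp (hqS 0)).1
        all_goals (rw [h]; exact (hmW.mp (hWcc.1 _)).1)
    refine exceptional_tetra heq hec (fun j h => hWcc.2 (h ▸ hWcc.1 j)) hccinj hS'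
      (sa := w e) (sb := v 0 q) (ε := fun j => w (cc j))
      ((hw1 _ (hmW.mp heW.1).1).resolve_left (hmW.mp heW.1).2)
      ((hv1 _ _ (hmem.mp (hqS 0)).1).resolve_left (hmem.mp (hqS 0)).2)
      (fun j => (hw1 _ (hmW.mp (hWcc.1 j)).1).resolve_left (hmW.mp (hWcc.1 j)).2)
      (fun i => hval0 (hmW.mp heW.1).1 (heV i)) (fun i => ?_) (fun i j => ?_) rfl
      (hwval0 (hmem.mp (hqS 0)).1 hWcc.2) (fun j => rfl)
    · by_cases hi : 0 = i
      · rw [hi]
      · exact (hov 0 i hi).2 _ (hmem.mp (hqS i)).1 (hmem.mp (hqS 0)).2 (hmem.mp (hqS i)).2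
    · split_ifs with hij
      · subst hij; exact hval0 (hmW.mp (hWcc.1 i)).1 (hccN i)
      · exact ((hovW i).2 _ (hmW.mp (hWcc.1 j)).1 (hmem.mp (hccS i j hij)).2 (hmW.mp (hWcc.1 j)).2).symm

end CfsgLib.DihDefect
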