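import Cfsg.Agent.Lib.BlockArith.DihDefect.LocalTwo
import Cfsg.Agent.Lib.BlockArith.DihDefect.ClassSum

/-!
# The square of the idempotent times the class sum of the central involution

* `half_classConv_sub`: modulo two it is computed in the centraliser of the rotations of order four;
* `classConv_sq_four`: at the section of a rotation of order eight the square is divisible by four.
-/

set_option autoImplicit false

noncomputable section

open scoped ComplexConjugate Classical

namespace CfsgLib.DihDefect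

open Cfsg CfsgLib.Blocks CfsgLib.BlockArith CfsgLib.Char CfsgLib.BrauerPairs CfsgLib.NilBlock
open DihedralGroup

universe u

variable {G : Type u} [Group G] [Fintype G] {M : Ideal AlgInt} [M.IsMaximal] [hp : Fact (Nat.Prime 2)]
  {B : Set (IrrCharacter G)} {D : Subgroup G} {e : Set (IrrCharacter (Cen D))} {ι : DihedralGroup 8 →* G}
  {b : Set (IrrCharacter (Cen (Subgroup.zpowers (ι (r 2)))))}

omit [M.IsMaximal] hp in
theorem rot_four_mem (d : DData D ι 4) :
    ι (r 4) ∈ Cen (Subgroup.zpowers (ι (r 2))) := by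
  rw [CfsgLib.NilBlock.mem_cen_zpowers]
  show ι (r 4) * ι (r 2) = ι (r 2) * ι (r 4)
  rw [← map_mul, ← map_mul, r_mul_r, r_mul_r]
  rfl

/-- The central involution inside the centraliser. -/
def zFour (d : DData D ι 4) : Cen (Subgroup.zpowers (ι (r 2))) := ⟨ι (r 4), rot_four_mem d⟩

omit [M.IsMaximal] hp in
theorem zFour_facts (d : DData D ι 4) :
    zFour d ∈ Subgroup.center (Cen (Subgroup.zpowers (ι (r 2)))) ∧ zFour d * zFour d = 1 := by
  constructor
  · refine Subgroup.mem_center_iff.mpr fun w => Subtype.ext ?_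
    have h := Subgroup.mem_centralizer_iff.mp w.2 _ (Subgroup.pow_mem _ (Subgroup.mem_zpowers (ι (r 2))) 2)
    rw [← map_pow, pow_two, r_mul_r] at h
    exact h.symm
  · refine Subtype.ext ?_
    show ι (r 4) * ι (r 4) = 1
    rw [← map_mul, r_mul_r, ← map_one ι]
    rfl

theorem orderOf_dvd_ordCompl {x : G} (hx : ¬ 2 ∣ orderOf x) :
    orderOf x ∣ Nat.card G / 2 ^ (Nat.card G).factorization 2 := by
  have h : orderOf x ∣ 2 ^ (Nat.card G).factorization 2 * (Nat.card G / 2 ^ (Nat.card G).factorization 2) := by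
    rw [Nat.ordProj_mul_ordCompl_eq_self]
    exact orderOf_dvd_natCard x
  exact (Nat.Coprime.pow_right _ ((Nat.prime_two.coprime_iff_not_dvd.mpr hx).symm)).dvd_of_dvd_mul_left h

set_option maxHeartbeats 800000 in
/-- Modulo two the coefficients are those of the idempotent of the centraliser times the involution. -/
theorem half_classConv_sub (hM : IsPModular 2 M) (hmax : IsMaximalBrauerPair 2 M B D e) (d : DData D ι 4)
    (hb : SubpairLE 2 M (Subgroup.zpowers (ι (r 2))) b D e) (w : Cen (Subgroup.zpowers (ι (r 2)))) :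
    (classConv B (ι (r 4)) (w : G) - blockCoeff b (w⁻¹ * zFour d)) / 2 ∈ locRing M := by
  have hB := hmax.1.2.1
  have hbb : IsPBlock M b := (isBrauerPair_left (a := ⟨_, b⟩) hb hmax.1.1).2
  obtain ⟨hzc, hz2⟩ := zFour_facts d
  have : CharP (Res M) 2 := res_charP M hM
  have hQp : IsPGroup 2 (Subgroup.zpowers (ι (r 2))) := d.isPGroup.to_le (Subgroup.zpowers_le.mpr (d.mem _))
  let E : G → Res M := fun x => res M ⟨blockCoeff B x, blockCoeff_mem_locRing hB x⟩
  let E₂ : Cen (Subgroup.zpowers (ι (r 2))) → Res M := fun x =>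
    res M ⟨blockCoeff b x, blockCoeff_mem_locRing hbb x⟩
  have hEE : ∀ x : Cen (Subgroup.zpowers (ι (r 2))), E (x : G) = E₂ x := fun x => by
    have h := congrArg (fun y : KG M G => y.coeff (x : G)) (br_gidemTop_four hM hmax d hb)
    simp only [coeff_br, if_pos x.2, gidemTop, gidem, coeff_ofFun] at h
    rw [show subgroupBlockCoeff (Cen (Subgroup.zpowers (ι (r 2)))) b (x : G) = blockCoeff b x by
      simp [subgroupBlockCoeff], resD_eq (blockCoeff_mem_locRing hB _),
      resD_eq (blockCoeff_mem_locRing hbb _)] at h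
    exact h
  -- the conjugates outside cancel in pairs
  let F : G → Res M := fun k =>
    if k ∈ conjSet (ι (r 4)) ∧ k ∉ Cen (Subgroup.zpowers (ι (r 2))) then E ((w : G)⁻¹ * k) else 0
  let _ : MulAction (Subgroup.zpowers (ι (r 2))) G :=
    MulAction.compHom G ((ConjAct.toConjAct : G ≃* ConjAct G).toMonoidHom.comp (Subgroup.zpowers (ι (r 2))).subtype)
  have hsmul : ∀ (a : Subgroup.zpowers (ι (r 2))) (x : G), a • x = (a : G) * x * (a : G)⁻¹ := fun a x => rfl
  have hfix : ∀ a : Subgroup.zpowers (ι (r 2)), (a : G) * (w : G) * (a : G)⁻¹ = (w : G) := fun a => by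
    rw [Subgroup.mem_centralizer_iff.mp w.2 _ a.2, mul_inv_cancel_right]
  obtain ⟨y, hy⟩ := sum_orbits (H := Subgroup.zpowers (ι (r 2))) 2 F (fun a k => by
      have h1 : (a • k ∈ conjSet (ι (r 4))) ↔ k ∈ conjSet (ι (r 4)) := by
        rw [hsmul]
        refine ⟨fun h => ?_, fun h => conj_mem_conjSet _ h⟩
        have := conj_mem_conjSet (a : G)⁻¹ h
        simpa [mul_assoc] using this
      have h2 : a • k ∈ Cen (Subgroup.zpowers (ι (r 2))) ↔ k ∈ Cen (Subgroup.zpowers (ι (r 2))) := by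
        have ha : (a : G) ∈ Cen (Subgroup.zpowers (ι (r 2))) := by
          rw [CfsgLib.NilBlock.mem_cen_zpowers]
          obtain ⟨n, hn⟩ := Subgroup.mem_zpowers_iff.mp a.2
          rw [← hn]
          exact (Commute.refl _).zpow_left n
        rw [hsmul, Subgroup.mul_mem_cancel_right _ (Subgroup.inv_mem _ ha), Subgroup.mul_mem_cancel_left _ ha]
      simp only [F, h1, h2]
      refine if_congr Iff.rfl ?_ rfl
      refine congrArg (res M) (Subtype.ext ?_)
      show blockCoeff B _ = blockCoeff B _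
      rw [← blockCoeff_conj B ((w : G)⁻¹ * k) a]
      congr 1
      conv_lhs => rw [← hfix a, hsmul]
      group)
    (fun k hk => by
      have hk' : k ∉ Cen (Subgroup.zpowers (ι (r 2))) := by
        intro hc; simp [F, hc] at hk
      obtain ⟨j, hj⟩ := hQp.card_orbit k
      rw [hj]
      rcases j with _ | j
      · exfalso
        apply hk'
        rw [CfsgLib.NilBlock.mem_cen_zpowers]
        have hsub := (Nat.card_eq_one_iff_unique.mp hj).1
        have h : (⟨ι (r 2), Subgroup.mem_zpowers _⟩ : Subgroup.zpowers (ι (r 2))) • k = k :=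
          congrArg Subtype.val (hsub.elim
            (⟨_, MulAction.mem_orbit k (⟨ι (r 2), Subgroup.mem_zpowers _⟩ : Subgroup.zpowers (ι (r 2)))⟩ :
              MulAction.orbit (Subgroup.zpowers (ι (r 2))) k) ⟨k, MulAction.mem_orbit_self k⟩)
        rw [hsmul] at h
        exact (mul_inv_eq_iff_eq_mul.mp h).symm
      · exact dvd_pow_self 2 (Nat.succ_ne_zero j))
  rw [show ((2 : ℕ) : Res M) = 0 from CharP.cast_eq_zero _ 2, zero_mul] at hy
  -- the sum inside
  set S : Finset (Cen (Subgroup.zpowers (ι (r 2)))) := Finset.univ.filter fun k => (k : G) ∈ conjSet (ι (r 4))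
    with hS
  have hz4 : orderOf (ι (r 4)) = 2 := d.orderOf_zz
  have hSsum : ∑ k ∈ S, blockCoeff b (w⁻¹ * k) = blockCoeff b (w⁻¹ * zFour d) := by
    refine sum_blockCoeff_shift b S (fun g k hk => ?_) hzc ?_ hz2 (fun k hk => ?_) (fun ψ hψ k hk hne => ?_) w
    · rw [hS, Finset.mem_filter] at hk ⊢
      refine ⟨Finset.mem_univ _, ?_⟩
      rw [Subgroup.coe_mul, Subgroup.coe_mul, Subgroup.coe_inv]
      exact conj_mem_conjSet _ hk.2
    · rw [hS, Finset.mem_filter]
      exact ⟨Finset.mem_univ _, Finset.mem_filter.mpr ⟨Finset.mem_univ _, IsConj.refl _⟩⟩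
    · obtain ⟨g, hg⟩ := isConj_iff.mp (Finset.mem_filter.mp (Finset.mem_filter.mp hk).2).2
      refine Subtype.ext ?_
      show (k : G) * k = 1
      rw [← hg, show g * ι (r 4) * g⁻¹ * (g * ι (r 4) * g⁻¹) = g * (ι (r 4) * ι (r 4)) * g⁻¹ by group,
        ← map_mul, r_mul_r, show (r (4 + 4) : DihedralGroup 8) = 1 from rfl, map_one, mul_one, mul_inv_cancel]
    · by_contra hne'
      refine hne (Subtype.ext (involution_four hM hmax d hb hψ ?_ hne'))
      obtain ⟨g, hg⟩ := isConj_iff.mp (Finset.mem_filter.mp (Finset.mem_filter.mp hk).2).2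
      rw [← Subgroup.orderOf_coe, ← hg, ← (SemiconjBy.conj_mk g (ι (r 4))).orderOf_eq, hz4]
  -- assemble
  have hmem : classConv B (ι (r 4)) (w : G) - blockCoeff b (w⁻¹ * zFour d) ∈ locRing M :=
    Subring.sub_mem _ (classConv_mem hB _ _) (blockCoeff_mem_locRing hbb _)
  have hI : MemLocalIdeal M (classConv B (ι (r 4)) (w : G) - blockCoeff b (w⁻¹ * zFour d)) := by
    refine (res_eq_zero_iff M ⟨_, hmem⟩).mp ?_
    have h1 : (⟨_, hmem⟩ : locRing M) =
        (∑ k ∈ conjSet (ι (r 4)), ⟨blockCoeff B ((w : G)⁻¹ * k), blockCoeff_mem_locRing hB _⟩) -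
          ∑ k ∈ S, ⟨blockCoeff b (w⁻¹ * k), blockCoeff_mem_locRing hbb _⟩ := by
      apply Subtype.ext
      rw [AddSubgroupClass.coe_sub, AddSubmonoidClass.coe_finsetSum, AddSubmonoidClass.coe_finsetSum, hSsum]
      rfl
    rw [h1, map_sub, map_sum, map_sum, sub_eq_zero]
    calc ∑ k ∈ conjSet (ι (r 4)), E ((w : G)⁻¹ * k)
        = (∑ k, F k) + ∑ k ∈ (conjSet (ι (r 4))).filter (· ∈ Cen (Subgroup.zpowers (ι (r 2)))),
            E ((w : G)⁻¹ * k) := by
          rw [← Finset.sum_filter_add_sum_filter_not (conjSet (ι (r 4)))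
            (· ∈ Cen (Subgroup.zpowers (ι (r 2)))), add_comm]
          simp only [F, ← Finset.sum_filter]
          congr 2
          ext k
          simp
      _ = ∑ k ∈ S, E₂ (w⁻¹ * k) := by
          rw [hy, zero_add]
          symm
          refine Finset.sum_bij (fun k _ => (k : G)) (fun k hk => ?_) (fun a _ b _ h => Subtype.ext h)
            (fun k hk => ?_) fun k _ => ?_
          · exact Finset.mem_filter.mpr ⟨(Finset.mem_filter.mp hk).2, k.2⟩
          · exact ⟨⟨k, (Finset.mem_filter.mp hk).2⟩,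
              Finset.mem_filter.mpr ⟨Finset.mem_univ _, (Finset.mem_filter.mp hk).1⟩, rfl⟩
          · rw [← hEE, Subgroup.coe_mul, Subgroup.coe_inv]
  refine half_mem_locRing hM (m := Nat.card G / 2 ^ (Nat.card G).factorization 2)
    (Nat.not_dvd_ordCompl Nat.prime_two Nat.card_pos.ne')
    (N := Nat.card G * Nat.card (Cen (Subgroup.zpowers (ι (r 2)))))
    (mul_ne_zero Nat.card_pos.ne' Nat.card_pos.ne') ?_ hI
  rw [Nat.cast_mul, mul_sub]
  refine Subring.sub_mem _ ?_ ?_
  · rw [classConv, Finset.mul_sum]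
    refine Subring.sum_mem _ fun k _ => ?_
    rw [mul_comm (Nat.card G : ℂ), mul_assoc]
    exact Subring.mul_mem _ (natCast_mem _ _) (blockCoeff_mem_rootRing hM hB (fun x hx => orderOf_dvd_ordCompl hx) _)
  · rw [mul_assoc]
    exact Subring.mul_mem _ (natCast_mem _ _) (blockCoeff_mem_rootRing hM hbb (fun x hx => by
      rw [← Subgroup.orderOf_coe] at hx ⊢
      exact orderOf_dvd_ordCompl hx) _)

set_option maxHeartbeats 800000 in
/-- **Divisibility by four.** -/
theorem classConv_sq_four (hM : IsPModular 2 M) (hmax : IsMaximalBrauerPair 2 M B D e) (d : DData D ι 4)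
    (hb : SubpairLE 2 M (Subgroup.zpowers (ι (r 2))) b D e) {c : G} (hc : c * ι (r 1) = ι (r 1) * c)
    (hco : ¬ 2 ∣ orderOf c) :
    ∃ y ∈ locRing M, ∑ w : G, classConv B (ι (r 4)) w * classConv B (ι (r 4)) (w⁻¹ * (ι (r 1) * c)) = 4 * y := by
  have hB := hmax.1.2.1
  have hbb : IsPBlock M b := (isBrauerPair_left (a := ⟨_, b⟩) hb hmax.1.1).2
  obtain ⟨hzc, hz2⟩ := zFour_facts d
  set g := ι (r 1) * c with hg
  set a := classConv B (ι (r 4)) with ha
  have hsq : ι (r 1) * ι (r 1) = ι (r 2) := by rw [← map_mul, r_mul_r]; rfl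
  have hcc : Commute c (ι (r 1)) := hc
  have hrg : Commute (ι (r 1)) g := (Commute.refl _).mul_right hcc.symm
  have hgL : g ∈ Cen (Subgroup.zpowers (ι (r 2))) := by
    rw [CfsgLib.NilBlock.mem_cen_zpowers, ← hsq]
    exact hrg.symm.mul_right hrg.symm
  -- outside
  let T : G → locRing M := fun w =>
    if w ∈ Cen (Subgroup.zpowers (ι (r 2))) then 0 else
      ⟨a w * a (w⁻¹ * g), Subring.mul_mem _ (classConv_mem hB _ _) (classConv_mem hB _ _)⟩
  let _ : MulAction (Subgroup.zpowers (ι (r 1))) G :=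
    MulAction.compHom G ((ConjAct.toConjAct : G ≃* ConjAct G).toMonoidHom.comp (Subgroup.zpowers (ι (r 1))).subtype)
  have hsmul : ∀ (u : Subgroup.zpowers (ι (r 1))) (x : G), u • x = (u : G) * x * (u : G)⁻¹ := fun u x => rfl
  have hug : ∀ u : Subgroup.zpowers (ι (r 1)), Commute (u : G) g := fun u => by
    obtain ⟨n, hn⟩ := Subgroup.mem_zpowers_iff.mp u.2
    rw [← hn]
    exact hrg.zpow_left n
  obtain ⟨y₁, hy₁⟩ := sum_orbits (H := Subgroup.zpowers (ι (r 1))) 4 T (fun u w => by
      have hu : (u : G) ∈ Cen (Subgroup.zpowers (ι (r 2))) := by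
        rw [CfsgLib.NilBlock.mem_cen_zpowers, ← hsq]
        obtain ⟨n, hn⟩ := Subgroup.mem_zpowers_iff.mp u.2
        rw [← hn]
        exact ((Commute.refl _).mul_right (Commute.refl _)).zpow_left n
      have h2 : u • w ∈ Cen (Subgroup.zpowers (ι (r 2))) ↔ w ∈ Cen (Subgroup.zpowers (ι (r 2))) := by
        rw [hsmul, Subgroup.mul_mem_cancel_right _ (Subgroup.inv_mem _ hu), Subgroup.mul_mem_cancel_left _ hu]
      simp only [T, h2]
      refine if_congr Iff.rfl rfl (Subtype.ext ?_)
      show a (u • w) * a ((u • w)⁻¹ * g) = a w * a (w⁻¹ * g)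
      rw [hsmul, ha, classConv_conj, ← classConv_conj B (ι (r 4)) (w⁻¹ * g) u]
      congr 2
      calc ((u : G) * w * (u : G)⁻¹)⁻¹ * g = (u : G) * w⁻¹ * ((u : G)⁻¹ * g) := by group
        _ = (u : G) * w⁻¹ * (g * (u : G)⁻¹) := by rw [(hug u).inv_left.eq]
        _ = (u : G) * (w⁻¹ * g) * (u : G)⁻¹ := by group)
    (fun w hw => by
      have hw' : w ∉ Cen (Subgroup.zpowers (ι (r 2))) := by
        intro hc'; simp [T, hc'] at hw
      obtain ⟨j, hj⟩ := (d.isPGroup.to_le (Subgroup.zpowers_le.mpr (d.mem (r 1)))).card_orbit w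
      set u : Subgroup.zpowers (ι (r 1)) := ⟨ι (r 1), Subgroup.mem_zpowers _⟩ with hu
      have hne : (u * u) • w ≠ w := by
        intro he
        apply hw'
        rw [CfsgLib.NilBlock.mem_cen_zpowers]
        rw [hsmul, Subgroup.coe_mul, hu, hsq] at he
        exact (mul_inv_eq_iff_eq_mul.mp he).symm
      have h3 : 3 ≤ Nat.card (MulAction.orbit (Subgroup.zpowers (ι (r 1))) w) := by
        rw [Nat.card_eq_fintype_card, ← Set.toFinset_card]
        refine le_trans (le_of_eq (?_ : 3 = ({w, u • w, (u * u) • w} : Finset G).card))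
          (Finset.card_le_card fun x hx => ?_)
        · have h1 : w ≠ u • w := fun he => hne (by rw [mul_smul, ← he, ← he])
          have h2 : u • w ≠ (u * u) • w := fun he => hne (by
            rw [mul_smul] at he ⊢
            have := MulAction.injective u he
            rw [← this, ← this])
          rw [Finset.card_insert_of_notMem (by simp [h1, hne.symm]), Finset.card_pair h2]
        · rw [Set.mem_toFinset]
          simp only [Finset.mem_insert, Finset.mem_singleton] at hx
          rcases hx with rfl | rfl | rfl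
          · exact MulAction.mem_orbit_self _
          · exact MulAction.mem_orbit _ _
          · exact MulAction.mem_orbit _ _
      rw [hj] at h3 ⊢
      rcases j with _ | _ | j
      · norm_num at h3
      · norm_num at h3
      · exact Dvd.intro_left (2 ^ j) (by ring))
  -- inside
  set g' : Cen (Subgroup.zpowers (ι (r 2))) := ⟨g, hgL⟩ with hg'
  let β : Cen (Subgroup.zpowers (ι (r 2))) → ℂ := fun w => blockCoeff b (w⁻¹ * zFour d)
  let ε : Cen (Subgroup.zpowers (ι (r 2))) → ℂ := fun w => (a (w : G) - β w) / 2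
  have hε : ∀ w, ε w ∈ locRing M := fun w => half_classConv_sub hM hmax d hb w
  have haw : ∀ w : Cen (Subgroup.zpowers (ι (r 2))), a (w : G) = β w + 2 * ε w := fun w => by simp only [ε]; ring
  have hcz : ∀ v : Cen (Subgroup.zpowers (ι (r 2))), v * zFour d = zFour d * v := fun v =>
    Subgroup.mem_center_iff.mp hzc v
  have hεcl : ∀ w v, ε (v * w * v⁻¹) = ε w := fun w v => by
    simp only [ε, β]
    rw [Subgroup.coe_mul, Subgroup.coe_mul, Subgroup.coe_inv, ha, classConv_conj,
      ← blockCoeff_conj b (w⁻¹ * zFour d) v]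
    congr 3
    calc (v * w * v⁻¹)⁻¹ * zFour d = v * w⁻¹ * (v⁻¹ * zFour d) := by group
      _ = v * w⁻¹ * (zFour d * v⁻¹) := by rw [hcz v⁻¹]
      _ = v * (w⁻¹ * zFour d) * v⁻¹ := by group
  have hg2 : 2 ∣ orderOf g := by
    have hr8 : orderOf (ι (r 1)) = 8 := by rw [orderOf_injective ι d.inj, orderOf_r_one]
    rw [hg, hcc.symm.orderOf_mul_eq_mul_orderOf_of_coprime (by
      rw [hr8, show (8 : ℕ) = 2 ^ 3 from rfl]
      exact Nat.Coprime.pow_left _ (Nat.prime_two.coprime_iff_not_dvd.mpr hco)), hr8]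
    exact Dvd.dvd.mul_right (by norm_num) _
  have hbb0 : ∑ w, β w * β (w⁻¹ * g') = 0 := by
    rw [← blockCoeff_eq_zero hM hbb (show 2 ∣ orderOf g'⁻¹ by
      rw [orderOf_inv, ← Subgroup.orderOf_coe]; exact hg2), ← sum_blockCoeff_conv hbb g'⁻¹]
    refine Fintype.sum_equiv ((Equiv.inv _).trans (Equiv.mulRight (zFour d))) _ _ fun w => ?_
    simp only [β, Equiv.trans_apply, Equiv.inv_apply, Equiv.coe_mulRight]
    congr 1
    calc blockCoeff b ((w⁻¹ * g')⁻¹ * zFour d) = blockCoeff b (g'⁻¹ * (w * zFour d)) := by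
          congr 1; group
      _ = blockCoeff b ((w * zFour d) * g'⁻¹) := by
          rw [← blockCoeff_conj b (g'⁻¹ * (w * zFour d)) (w * zFour d)]
          congr 1; group
      _ = blockCoeff b ((w⁻¹ * zFour d)⁻¹ * g'⁻¹) := by
          congr 1
          rw [mul_inv_rev, inv_inv, inv_eq_of_mul_eq_one_right hz2, hcz w]
  have hcross : ∑ w, ε w * β (w⁻¹ * g') = ∑ w, β w * ε (w⁻¹ * g') := by
    refine Fintype.sum_equiv ((Equiv.inv _).trans (Equiv.mulRight g')) _ _ fun w => ?_
    simp only [Equiv.trans_apply, Equiv.inv_apply, Equiv.coe_mulRight]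
    rw [mul_comm]
    congr 1
    rw [show (w⁻¹ * g')⁻¹ * g' = g'⁻¹ * w * g'⁻¹⁻¹ by group, hεcl]
  refine ⟨(y₁ : ℂ) + ∑ w, β w * ε (w⁻¹ * g') + ∑ w, ε w * ε (w⁻¹ * g'), ?_, ?_⟩
  · refine Subring.add_mem _ (Subring.add_mem _ y₁.2 (Subring.sum_mem _ fun w _ => ?_))
      (Subring.sum_mem _ fun w _ => Subring.mul_mem _ (hε _) (hε _))
    exact Subring.mul_mem _ (blockCoeff_mem_locRing hbb _) (hε _)
  · have hL : ∑ w ∈ Finset.univ.filter (· ∈ Cen (Subgroup.zpowers (ι (r 2)))), a w * a (w⁻¹ * g) =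
        ∑ w : Cen (Subgroup.zpowers (ι (r 2))), a (w : G) * a ((w⁻¹ * g' : Cen (Subgroup.zpowers (ι (r 2)))) : G) := by
      symm
      refine Finset.sum_bij (fun k _ => (k : G)) (fun k _ => Finset.mem_filter.mpr ⟨Finset.mem_univ _, k.2⟩)
        (fun a _ b _ h => Subtype.ext h)
        (fun k hk => ⟨⟨k, (Finset.mem_filter.mp hk).2⟩, Finset.mem_univ _, rfl⟩) fun k _ => ?_
      rw [Subgroup.coe_mul, Subgroup.coe_inv]
    have hout : ∑ w ∈ Finset.univ.filter (fun w => ¬ w ∈ Cen (Subgroup.zpowers (ι (r 2)))), a w * a (w⁻¹ * g) =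
        4 * (y₁ : ℂ) := by
      have h := congrArg (Subring.subtype (locRing M)) hy₁
      rw [map_sum, map_mul, map_natCast, Nat.cast_ofNat] at h
      refine Eq.trans ?_ h
      rw [Finset.sum_filter]
      refine Finset.sum_congr rfl fun w _ => ?_
      simp only [T]
      split_ifs <;> simp
    rw [← Finset.sum_filter_add_sum_filter_not Finset.univ (· ∈ Cen (Subgroup.zpowers (ι (r 2)))), hL, hout]
    simp only [haw, add_mul, mul_add, Finset.sum_add_distrib]
    have e1 : ∑ w, 2 * ε w * β (w⁻¹ * g') = 2 * ∑ w, β w * ε (w⁻¹ * g') := by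
      rw [← hcross, Finset.mul_sum]; exact Finset.sum_congr rfl fun w _ => by ring
    have e2 : ∑ w, β w * (2 * ε (w⁻¹ * g')) = 2 * ∑ w, β w * ε (w⁻¹ * g') := by
      rw [Finset.mul_sum]; exact Finset.sum_congr rfl fun w _ => by ring
    have e3 : ∑ w, 2 * ε w * (2 * ε (w⁻¹ * g')) = 4 * ∑ w, ε w * ε (w⁻¹ * g') := by
      rw [Finset.mul_sum]; exact Finset.sum_congr rfl fun w _ => by ring
    rw [hbb0, e1, e2, e3]
    ring

end CfsgLib.DihDefect
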