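import Cfsg.Agent.Lib.BlockArith.DihDefect.Local
import Cfsg.Agent.Lib.BlockArith.DihDefect.Combi
import Cfsg.Agent.Lib.BlockArith.SmallRank
import Mathlib.NumberTheory.LegendreSymbol.AddCharacter

/-!
# The invariants of a block from the values on the sections of the rotations

* `height_facts`: integral contributions and heights;
* `blockRank_add_le`: orthogonal relations bound the rank;
* `invariants_of_rows`: the invariants, when the exceptional configuration does not occur.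
-/

set_option autoImplicit false

noncomputable section

open scoped ComplexConjugate Classical

namespace CfsgLib.DihDefect

open Cfsg CfsgLib.Blocks CfsgLib.BlockArith CfsgLib.Char CfsgLib.BrauerPairs CfsgLib.NilBlock
open DihedralGroup

universe u

variable {G : Type u} [Group G] [Fintype G] {M : Ideal AlgInt} [M.IsMaximal] {B : Set (IrrCharacter G)}

theorem int_dvd_of_eq {a : ℤ} {N : ℕ} (hN : N ≠ 0) {w : ℂ} (hw : IsIntegral ℤ w)
    (h : (a : ℂ) = (N : ℂ) * w) : (N : ℤ) ∣ a := by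
  have hN' : (N : ℂ) ≠ 0 := Nat.cast_ne_zero.mpr hN
  have hq : w = (((a : ℚ) / (N : ℚ) : ℚ) : ℂ) := by push_cast; rw [h]; field_simp
  obtain ⟨n, hn⟩ := (isIntegral_rat_iff _).mp (hq ▸ hw)
  refine ⟨n, ?_⟩
  rw [hq, ← hn, Rat.cast_intCast] at h
  exact_mod_cast h

/-- Contributions that are integers: parity and heights. -/
theorem height_facts [Fact (Nat.Prime 2)] (hM : IsPModular 2 M) {x : G} {H : Subgroup G}
    (hH : H = Subgroup.centralizer ({x} : Set G)) (hx : ∃ k : ℕ, orderOf x = 2 ^ k) {b : Set (IrrCharacter H)}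
    (hind : IsInducedBlock M H b B) (hd : blockDefect 2 b = blockDefect 2 B) (f : IrrCharacter G → ℤ)
    (hf : ∀ χ η, ctr 2 x H b χ η = (f χ : ℂ) * f η) :
    (∀ χ ∈ B, blockHeight 2 B (χ : G → ℂ) = 0 → Odd (f χ)) ∧
      ∀ χ ∈ B, blockHeight 2 B (χ : G → ℂ) = 0 → ∀ η ∈ B,
        f η ≠ 0 ∧ ((2 ^ blockHeight 2 B (η : G → ℂ) : ℕ) : ℤ) ∣ f χ * f η := by
  subst hH
  constructor
  · intro χ hχ h0
    obtain ⟨v, hv, L, hL, hres⟩ := exists_heightVec hM hx hind
    by_contra hodd
    obtain ⟨k, hk⟩ := Int.not_odd_iff_even.mp hodd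
    have h1 := hres χ χ
    have h2 : (⟨contrib 2 x b χ χ, algInt_le_locRing M (isIntegral_contrib hM hind.1 χ χ)⟩ : locRing M) =
        ((2 : ℕ) : locRing M) * ((k * f χ : ℤ) : locRing M) := Subtype.ext (by
      show contrib 2 x b χ χ = _
      rw [← ctr_eq_contrib, hf, hk]
      simp only [Subring.coe_mul, SubringClass.coe_natCast, SubringClass.coe_intCast]
      push_cast
      ring)
    rw [h2, map_mul, map_natCast, ← map_natCast (res M), (res_natCast_eq_zero_iff M hM 2).mpr dvd_rfl,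
      zero_mul, zero_mul] at h1
    exact mul_ne_zero (hv χ hχ h0) (mul_ne_zero (hv χ hχ h0) hL) h1.symm
  · intro χ hχ h0 η hη
    obtain ⟨w, hw, hw0, hc⟩ := contrib_height hM hx hind hd hχ h0 hη
    rw [← ctr_eq_contrib, hf] at hc
    refine ⟨fun h => ?_, int_dvd_of_eq (pow_ne_zero _ two_ne_zero) hw ?_⟩
    · rw [h, Int.cast_zero, mul_zero] at hc
      exact mul_ne_zero (Nat.cast_ne_zero.mpr (pow_ne_zero _ two_ne_zero)) hw0 hc.symm
    · push_cast at hc ⊢
      exact hc

/-- Orthogonal relations between the regular parts of the members bound the rank. -/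
theorem blockRank_add_le {p : ℕ} (B : Set (IrrCharacter G)) {n : ℕ} (c : Fin n → IrrCharacter G → ℂ)
    (hrel : ∀ i, ∀ y : G, ¬ p ∣ orderOf y → ∑ χ ∈ bset B, (χ : G → ℂ) y * c i χ = 0)
    (hdiag : ∀ i, ∑ χ ∈ bset B, c i χ * conj (c i χ) ≠ 0)
    (horth : ∀ i j, i ≠ j → ∑ χ ∈ bset B, c i χ * conj (c j χ) = 0) :
    blockRank p B + n ≤ (bset B).card := by
  set Φ : (bset B → ℂ) →ₗ[ℂ] (G → ℂ) :=
    Fintype.linearCombination ℂ (fun χ : bset B => pRegularPart p ((χ : IrrCharacter G) : G → ℂ)) with hΦ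
  have hrange : LinearMap.range Φ = Submodule.span ℂ ((fun χ : IrrCharacter G => pRegularPart p (χ : G → ℂ)) '' B) := by
    rw [hΦ, Fintype.range_linearCombination]
    congr 1
    ext f
    simp
  have hker : ∀ i, (fun χ : bset B => c i χ) ∈ LinearMap.ker Φ := fun i => by
    rw [LinearMap.mem_ker, hΦ, Fintype.linearCombination_apply]
    funext y
    simp only [Finset.sum_apply, Pi.smul_apply, smul_eq_mul, pRegularPart_apply, Pi.zero_apply]
    by_cases hy : p ∣ orderOf y
    · simp [hy]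
    · rw [← hrel i y hy, ← Finset.sum_coe_sort (bset B)]
      refine Finset.sum_congr rfl fun χ _ => ?_
      rw [if_neg hy]; ring
  have hli : LinearIndependent ℂ (fun i => (⟨fun χ : bset B => c i χ, hker i⟩ : LinearMap.ker Φ)) := by
    rw [Fintype.linearIndependent_iff]
    intro g hg i
    have h1 : ∀ χ : bset B, ∑ j, g j * c j χ = 0 := fun χ => by
      have := congrFun (congrArg Subtype.val hg) χ
      simpa [Finset.sum_apply] using this
    have h2 : ∑ χ : bset B, (∑ j, g j * c j χ) * conj (c i χ) = 0 :=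
      Finset.sum_eq_zero fun χ _ => by rw [h1 χ, zero_mul]
    simp only [Finset.sum_mul] at h2
    rw [Finset.sum_comm, Finset.sum_eq_single i (fun j _ hj => ?_) (by simp)] at h2
    · simp only [mul_assoc, ← Finset.mul_sum] at h2
      rw [Finset.sum_coe_sort (bset B) (fun χ => c i χ * conj (c i χ))] at h2
      exact (mul_eq_zero.mp h2).resolve_right (hdiag i)
    · simp only [mul_assoc, ← Finset.mul_sum]
      rw [Finset.sum_coe_sort (bset B) (fun χ => c j χ * conj (c i χ)), horth j i hj, mul_zero]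
  have h1 := hli.fintype_card_le_finrank
  have h2 := LinearMap.finrank_range_add_finrank_ker Φ
  rw [Fintype.card_fin] at h1
  rw [hrange, Module.finrank_fintype_fun_eq_card, Fintype.card_coe] at h2
  show Module.finrank ℂ _ + n ≤ _
  omega

variable {D : Subgroup G} {e : Set (IrrCharacter (Cen D))} {m h : ℕ} {ι : DihedralGroup m →* G}

/-- The index of a rotation among the first `h - 1`. -/
def idx (m : ℕ) {n : ℕ} (i : Fin n) : ZMod m := (((i : ℕ) + 1 : ℕ) : ZMod m)

theorem idx_facts (d : DData D ι h) :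
    (h : ZMod m) ≠ 0 ∧ -(h : ZMod m) = (h : ZMod m) ∧
    ∀ i : Fin (h - 1), idx m i ≠ 0 ∧ idx m i ≠ (h : ZMod m) ∧ idx m i ≠ -(h : ZMod m) ∧
      ∀ j : Fin (h - 1), (idx m i = idx m j ↔ i = j) ∧ idx m i ≠ -idx m j := by
  have := d.neZero
  have hm := d.hm
  have hp := d.hpos
  have hval : ∀ k : ℕ, k < m → ((k : ZMod m)).val = k := fun k hk => ZMod.val_natCast_of_lt hk
  have hneg : -(h : ZMod m) = (h : ZMod m) := by
    rw [eq_comm, ← add_eq_zero_iff_eq_neg, ← Nat.cast_add, show h + h = m by omega, ZMod.natCast_self]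
  refine ⟨fun e => ?_, hneg, fun i => ?_⟩
  · have := congrArg ZMod.val e
    rw [ZMod.val_zero, hval _ (by omega)] at this
    omega
  have hi := i.2
  have h1 : idx m i ≠ (h : ZMod m) := fun e => by
    have := congrArg ZMod.val e
    rw [idx, hval _ (by omega), hval _ (by omega)] at this
    omega
  refine ⟨fun e => ?_, h1, by rwa [hneg], fun j => ⟨⟨fun e => ?_, fun e => by rw [e]⟩, fun e => ?_⟩⟩
  · have := congrArg ZMod.val e
    rw [ZMod.val_zero, idx, hval _ (by omega)] at this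
    omega
  · have := congrArg ZMod.val e
    have hj := j.2
    rw [idx, idx, hval _ (by omega), hval _ (by omega)] at this
    exact Fin.ext (by omega)
  · have e' : (((i : ℕ) + 1 + ((j : ℕ) + 1) : ℕ) : ZMod m) = 0 := by
      rw [Nat.cast_add]; exact eq_neg_iff_add_eq_zero.mp e
    have := congrArg ZMod.val e'
    have hj := j.2
    rw [ZMod.val_zero, hval _ (by omega)] at this
    omega

theorem RotRows.ctr_eq [Fact (Nat.Prime 2)] {R : IrrCharacter G → ZMod m → ℂ} (hR : RotRows M B D e ι h R)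
    {l : ZMod m} {b : Set (IrrCharacter (Cen (Subgroup.zpowers (ι (r l)))))}
    {v : Cen (Subgroup.zpowers (ι (r l))) → ℂ}
    (hnorm : ((2 ^ blockDefect 2 b : ℕ) : ℂ) / (Nat.card (Cen (Subgroup.zpowers (ι (r l)))) : ℂ) * regSum 2 v v = 1)
    (hval : ∀ (χ : IrrCharacter G) (s : Cen (Subgroup.zpowers (ι (r l)))), ¬ 2 ∣ orderOf s →
        secH (ι (r l)) (Cen (Subgroup.zpowers (ι (r l)))) b χ s = R χ l * v s) (χ η : IrrCharacter G) :
    ctr 2 (ι (r l)) (Cen (Subgroup.zpowers (ι (r l)))) b χ η = R χ l * R η l := by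
  rw [ctr, ← mul_one (R χ l * R η l), ← hnorm, regSum_eq, regSum_eq]
  simp only [Finset.mul_sum]
  refine Finset.sum_congr rfl fun s _ => ?_
  split_ifs with hs
  · ring
  · rw [hval χ s hs, hval η s hs, map_mul, hR.real]; ring

/-- The value at the central involution in terms of the coefficients. -/
theorem zval_eq [NeZero m] (d : DData D ι h) {ψ : AddChar (ZMod m) ℂ} (hψ : ψ.IsPrimitive)
    {R : IrrCharacter G → ZMod m → ℂ} (hR : RotRows M B D e ι h R) {u : IrrCharacter G → ZMod m → ℤ}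
    (hu : ∀ χ j, coef ψ (R χ) j = (u χ j : ℂ)) (χ : IrrCharacter G) :
    R χ (h : ZMod m) =
      ((u χ (h : ZMod m) + 2 * ∑ i : Fin (h - 1), (-1) ^ ((i : ℕ) + 1) * u χ (idx m i) : ℤ) : ℂ) := by
  rw [value_half hψ d.hm d.hpos d.even (R χ) (hR.neg χ)]
  simp only [hu, idx]
  push_cast
  ring

set_option maxHeartbeats 1000000 in
/-- **The invariants.** -/
theorem invariants_of_rows [Fact (Nat.Prime 2)] (hM : IsPModular 2 M)
    (hmax : IsMaximalBrauerPair 2 M B D e) (d : DData D ι h) {R : IrrCharacter G → ZMod m → ℂ}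
    (hR : RotRows M B D e ι h R)
    (hexc : ∀ [NeZero m] (ψ : AddChar (ZMod m) ℂ) (u : IrrCharacter G → ZMod m → ℤ), h = 4 → ψ.IsPrimitive →
      (∀ χ j, coef ψ (R χ) j = (u χ j : ℂ)) →
      Exceptional (bset B) (fun (i : Fin 3) χ => u χ (idx m i)) (fun χ => u χ (h : ZMod m)) → False) :
    Nat.card B = h + 3 ∧ 1 ≤ blockRank 2 B ∧ blockRank 2 B ≤ 3 ∧
      Nat.card {χ : IrrCharacter G // χ ∈ B ∧ blockHeight 2 B (χ : G → ℂ) = 0} = 4 ∧
      ∀ χ ∈ B, blockHeight 2 B (χ : G → ℂ) ≤ 1 := by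
  have := d.neZero
  have hm := d.hm
  have hpos := d.hpos
  obtain ⟨a, ha⟩ := d.even
  have hB := hmax.1.2.1
  set ψ : AddChar (ZMod m) ℂ := ZMod.stdAddChar with hψdef
  have hψ : ψ.IsPrimitive := ZMod.isPrimitive_stdAddChar m
  choose u hu using fun χ j => hR.int ψ χ j
  obtain ⟨hh0, hnh, hidx⟩ := idx_facts d
  -- the Gram matrix
  have hgram : ∀ i j : ZMod m, i ≠ 0 → j ≠ 0 → ∑ χ ∈ bset B, u χ i * u χ j =
      (if i = j then 1 else 0) + (if i = -j then 1 else 0) + 2 := fun i j hi hj => by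
    have hg := coef_gram hψ (bset B) R hR.orth hi hj
    simp only [hu, map_intCast] at hg
    exact_mod_cast hg
  set v : Fin (h - 1) → IrrCharacter G → ℤ := fun i χ => u χ (idx m i) with hv
  set w : IrrCharacter G → ℤ := fun χ => u χ (h : ZMod m) with hw
  -- the value at the central involution
  set f : IrrCharacter G → ℤ := fun χ => w χ + 2 * ∑ i : Fin (h - 1), (-1) ^ ((i : ℕ) + 1) * v i χ with hf
  have hfR : ∀ χ, R χ (h : ZMod m) = (f χ : ℂ) := zval_eq d hψ hR hu
  obtain ⟨bz, vz, hle, hind, hdef, hnorm, hval, -⟩ := hR.sec _ hh0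
  have hdB : blockDefect 2 bz = blockDefect 2 B := by
    rw [if_pos rfl] at hdef
    refine Nat.pow_right_injective le_rfl ?_
    show 2 ^ blockDefect 2 bz = 2 ^ blockDefect 2 B
    rw [hdef, ← card_defectGroup hM hB (isDefectGroup_of_maximal hM hmax), d.card]
  obtain ⟨hodd, hdvd⟩ := height_facts hM (cen_zpowers _) (exists_pow_of_mem hmax.1.1.1 (d.mem _)) hind hdB f
    (fun χ η => by rw [hR.ctr_eq hnorm hval, hfR, hfR])
  obtain ⟨χ₀, hχ₀, hh₀⟩ := exists_height_zero (p := 2) hM hB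
  have hpar : ∀ χ, Odd (f χ) ↔ Odd (w χ) := fun χ => by
    simp [hf, parity_simps]
  have hh0iff : ∀ χ ∈ B, (blockHeight 2 B (χ : G → ℂ) = 0 ↔ Odd (w χ)) := fun χ hχ => by
    refine ⟨fun h0 => (hpar χ).mp (hodd χ hχ h0), fun ho => ?_⟩
    by_contra hne
    have h1 : (2 : ℤ) ∣ f χ₀ * f χ := (Dvd.dvd.trans (by exact_mod_cast dvd_pow_self 2 hne)) (hdvd χ₀ hχ₀ hh₀ χ hχ).2
    exact Int.not_even_iff_odd.mpr ((hodd χ₀ hχ₀ hh₀).mul ((hpar χ).mpr ho)) (even_iff_two_dvd.mpr h1)
  obtain ⟨hw1, hw4, hshape⟩ := shapes (bset B) (t := h - 1) ⟨a - 1, by omega⟩ v w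
    (fun i j => by
      show ∑ χ ∈ bset B, u χ (idx m i) * u χ (idx m j) = _
      rw [hgram _ _ (hidx i).1 (hidx j).1, if_neg ((hidx i).2.2.2 j).2]
      by_cases hij : i = j
      · subst hij; simp
      · rw [if_neg fun e => hij (((hidx i).2.2.2 j).1.mp e), if_neg hij]; norm_num)
    (fun i => by
      show ∑ χ ∈ bset B, u χ (idx m i) * u χ (h : ZMod m) = _
      rw [hgram _ _ (hidx i).1 hh0, if_neg (hidx i).2.1, if_neg (hidx i).2.2.1]; norm_num)
    (by
      show ∑ χ ∈ bset B, u χ (h : ZMod m) * u χ (h : ZMod m) = _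
      rw [hgram _ _ hh0 hh0, hnh, if_pos rfl]; norm_num)
    ⟨χ₀, mem_bset.mpr hχ₀, (hpar χ₀).mp (hodd χ₀ hχ₀ hh₀)⟩
    (fun χ hχ => by
      by_contra hno
      push Not at hno
      refine (hdvd χ₀ hχ₀ hh₀ χ (mem_bset.mp hχ)).1 ?_
      show w χ + 2 * ∑ i : Fin (h - 1), (-1) ^ ((i : ℕ) + 1) * v i χ = 0
      simp [hno.1, hno.2])
  rcases hshape with ⟨hk, hflower⟩ | ⟨ht, hE⟩
  swap
  · exact (hexc ψ u (by omega) hψ hu hE).elim
  have hcard : Nat.card B = h + 3 := by
    rw [Nat.card_eq_card_toFinset, show B.toFinset = bset B by ext χ; simp, hk]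
    omega
  refine ⟨hcard, blockRank_pos hB, ?_, ?_, fun χ hχ => ?_⟩
  · -- relations
    let l : Fin h → ZMod m := fun i => (((i : ℕ) + 1 : ℕ) : ZMod m)
    have hval : ∀ k : ℕ, k < m → ((k : ZMod m)).val = k := fun k hk => ZMod.val_natCast_of_lt hk
    have hl0 : ∀ i, l i ≠ 0 := fun i e => by
      have := congrArg ZMod.val e
      rw [ZMod.val_zero, hval _ (by have := i.2; omega)] at this
      omega
    have hlne : ∀ i j, i ≠ j → l i ≠ l j ∧ l i ≠ -l j := fun i j hij => ⟨fun e => by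
      have := congrArg ZMod.val e
      rw [hval _ (by have := i.2; omega), hval _ (by have := j.2; omega)] at this
      exact hij (Fin.ext (by omega)), fun e => by
      have e' : (((i : ℕ) + 1 + ((j : ℕ) + 1) : ℕ) : ZMod m) = 0 := by
        rw [Nat.cast_add]; exact eq_neg_iff_add_eq_zero.mp e
      have := congrArg ZMod.val e'
      have hi := i.2
      have hj := j.2
      rw [ZMod.val_zero, hval _ (by omega)] at this
      omega⟩
    have h1 := blockRank_add_le (p := 2) B (fun i χ => R χ (l i)) (fun i y hy => hR.reg _ (hl0 i) y hy)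
      (fun i => by
        rw [hR.orth _ _ (hl0 i) (hl0 i), if_pos rfl]
        refine mul_ne_zero (Nat.cast_ne_zero.mpr (by omega)) ?_
        split_ifs <;> norm_num)
      (fun i j hij => by
        rw [hR.orth _ _ (hl0 i) (hl0 j), if_neg (hlne j i (Ne.symm hij)).1, if_neg (hlne j i (Ne.symm hij)).2,
          add_zero, mul_zero])
    rw [hk] at h1
    omega
  · rw [← hw4, ← Nat.card_eq_finsetCard]
    refine Nat.card_congr (Equiv.subtypeEquivRight fun χ => ?_)
    rw [Finset.mem_filter, mem_bset]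
    refine and_congr_right fun hχ => (hh0iff χ hχ).trans ?_
    rcases hw1 χ (mem_bset.mpr hχ) with e | e | e <;> simp [e]
  · by_cases hwx : w χ = 0
    · obtain ⟨i, hi, hother⟩ := hflower χ (mem_bset.mpr hχ) hwx
      have h1 := (hdvd χ₀ hχ₀ hh₀ χ hχ).2
      have hfχ : f χ = 2 ∨ f χ = -2 := by
        show w χ + 2 * ∑ j : Fin (h - 1), (-1) ^ ((j : ℕ) + 1) * v j χ = 2 ∨ w χ + 2 * ∑ j : Fin (h - 1), (-1) ^ ((j : ℕ) + 1) * v j χ = -2
        rw [hwx, zero_add, Finset.sum_eq_single i (fun j _ hj => by rw [hother j hj, mul_zero]) (by simp)]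
        rcases neg_one_pow_eq_or ℤ ((i : ℕ) + 1) with e | e <;> rcases hi with e' | e' <;> rw [e, e'] <;> norm_num
      by_contra hlt
      have h4 : (4 : ℤ) ∣ f χ₀ * f χ := (Int.natCast_dvd_natCast.mpr
        (show 4 ∣ 2 ^ blockHeight 2 B (χ : G → ℂ) from pow_dvd_pow 2 (show 2 ≤ _ by omega))).trans h1
      obtain ⟨k, hk⟩ := hodd χ₀ hχ₀ hh₀
      rcases hfχ with e | e <;> rw [e, hk] at h4 <;> omega
    · refine le_of_eq_of_le ((hh0iff χ hχ).mpr ?_) zero_le_one
      rcases hw1 χ (mem_bset.mpr hχ) with e | e | e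
      · exact absurd e hwx
      · rw [e]; exact odd_one
      · rw [e]; exact odd_neg.mpr odd_one

end CfsgLib.DihDefect
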