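import Cfsg.Agent.Lib.BlockArith.MajorSubsections
import Cfsg.Agent.Lib.Blocks.CyclicLocal

/-!
# Orthogonality of different subsections

* `sum_char_mul_secH`, `sum_secH_cross`: the columns of non-conjugate subsections are orthogonal;
* `exists_column`: the column of an induced subsection is not zero;
* `sum_reg_secH`, `div_card_mul_regSum_mem`: scalar products with the part in a block.
-/

set_option autoImplicit false

noncomputable section

namespace CfsgLib.DihDefect

open Cfsg CfsgLib.Blocks CfsgLib.BlockArith CfsgLib.Char CfsgLib.BrauerPairs CfsgLib.NilBlock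
open CfsgLib.Blocks.Cyclic
open scoped ComplexConjugate Classical

universe u

variable {G : Type u} [Group G] [Fintype G] {p : ℕ} [hp : Fact p.Prime] {M : Ideal AlgInt} [M.IsMaximal]
  {B : Set (IrrCharacter G)}

omit hp in
theorem secH_eq_sum (hM : IsPModular p M) {x : G} {H : Subgroup G}
    (hH : H = Subgroup.centralizer ({x} : Set G)) {b : Set (IrrCharacter H)} (hb : IsPBlock M b)
    (χ : IrrCharacter G) {s : H} (hs : ¬ p ∣ orderOf s) :
    secH x H b χ s = ∑ c : H, BlockArith.blockKer p b s c * (χ : G → ℂ) (x * (c : G)) := by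
  subst hH
  exact blockPart_regular_eq hM hb _ hs

omit hp in
theorem blockKer_eq_zero {H : Type*} [Group H] [Fintype H] (b : Set (IrrCharacter H)) (s : H) {c : H}
    (hc : p ∣ orderOf c) : BlockArith.blockKer p b s c = 0 := by
  simp [BlockArith.blockKer, hc]

/-- An element whose `p`-part is not conjugate to `x` is orthogonal to the section of `x`. -/
theorem sum_char_mul_secH (hM : IsPModular p M) {x : G} (hx : ∃ k : ℕ, orderOf x = p ^ k)
    {b : Set (IrrCharacter (Cen (Subgroup.zpowers x)))} (hb : IsPBlock M b) {g u : G} (hgu : IsPPart p g u)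
    (hne : ¬ IsConj u x) {t : Cen (Subgroup.zpowers x)} (ht : ¬ p ∣ orderOf t) :
    ∑ χ : IrrCharacter G, (χ : G → ℂ) g * conj (secH x (Cen (Subgroup.zpowers x)) b χ t) = 0 := by
  simp only [secH_eq_sum hM (cen_zpowers x) hb _ ht, map_sum, map_mul, Finset.mul_sum]
  rw [Finset.sum_comm]
  refine Finset.sum_eq_zero fun c _ => ?_
  by_cases hc : p ∣ orderOf c
  · simp [blockKer_eq_zero b t hc]
  · have hcomm : Commute x (c : G) := (mem_cen_zpowers.mp c.2).symm
    have hpp : IsPPart p (x * (c : G)) x := isPPart_mul hcomm hx (by rwa [Subgroup.orderOf_coe])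
    have hnc : ¬ IsConj g (x * (c : G)) := fun h => by
      obtain ⟨w, hw⟩ := isConj_iff.mp h
      exact hne (isConj_iff.mpr ⟨w, isPPart_unique (hw ▸ isPPart_conj hgu w) hpp⟩)
    calc ∑ χ : IrrCharacter G, (χ : G → ℂ) g * (conj (BlockArith.blockKer p b t c) * conj ((χ : G → ℂ) (x * (c : G))))
        = conj (BlockArith.blockKer p b t c) * ∑ χ : IrrCharacter G, (χ : G → ℂ) g * conj ((χ : G → ℂ) (x * (c : G))) := by
          rw [Finset.mul_sum]; exact Finset.sum_congr rfl fun χ _ => by ring
      _ = 0 := by rw [second_orthogonality, if_neg hnc, mul_zero]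

theorem sum_secH_nonconj (hM : IsPModular p M) {x x' : G} (hx : ∃ k : ℕ, orderOf x = p ^ k)
    (hx' : ∃ k : ℕ, orderOf x' = p ^ k) (hne : ¬ IsConj x x')
    {b : Set (IrrCharacter (Cen (Subgroup.zpowers x)))} (hb : IsPBlock M b)
    {b' : Set (IrrCharacter (Cen (Subgroup.zpowers x')))} (hb' : IsPBlock M b')
    {s : Cen (Subgroup.zpowers x)} (hs : ¬ p ∣ orderOf s) {t : Cen (Subgroup.zpowers x')} (ht : ¬ p ∣ orderOf t) :
    ∑ χ : IrrCharacter G, secH x (Cen (Subgroup.zpowers x)) b χ s *
      conj (secH x' (Cen (Subgroup.zpowers x')) b' χ t) = 0 := by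
  simp only [secH_eq_sum hM (cen_zpowers x) hb _ hs, Finset.sum_mul]
  rw [Finset.sum_comm]
  refine Finset.sum_eq_zero fun c _ => ?_
  by_cases hc : p ∣ orderOf c
  · simp [blockKer_eq_zero b s hc]
  · have hcomm : Commute x (c : G) := (mem_cen_zpowers.mp c.2).symm
    rw [Finset.sum_congr rfl fun χ _ => mul_assoc _ _ _, ← Finset.mul_sum,
      sum_char_mul_secH hM hx' hb' (isPPart_mul hcomm hx (by rwa [Subgroup.orderOf_coe])) hne ht, mul_zero]

omit hp in
theorem sum_blockKer_ne (hM : IsPModular p M) {x : G} {H : Subgroup G}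
    (hH : H = Subgroup.centralizer ({x} : Set G)) {b b' : Set (IrrCharacter H)} (hb : IsPBlock M b)
    (hb' : IsPBlock M b') (hne : b ≠ b') {s : H} (hs : ¬ p ∣ orderOf s) (t : H) :
    ∑ c : H, BlockArith.blockKer p b s c * BlockArith.blockKer p b' c t = 0 := by
  by_cases ht : p ∣ orderOf t
  · simp [blockKer_eq_zero b' _ ht]
  let f : H → ℂ := fun c => (Nat.card H : ℂ)⁻¹ *
    ∑ φ : IrrCharacter H, if φ ∈ b' then conj ((φ : H → ℂ) t) * (φ : H → ℂ) c else 0
  have h1 : ∀ c, BlockArith.blockKer p b s c * BlockArith.blockKer p b' c t = BlockArith.blockKer p b s c * f c := fun c => by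
    by_cases hc : p ∣ orderOf c
    · simp [blockKer_eq_zero b s hc]
    · congr 1
      simp only [BlockArith.blockKer, Matrix.of_apply, hc, ht, or_self, if_false, f]
      exact congrArg _ (Finset.sum_congr rfl fun φ _ => by split_ifs <;> ring)
  subst hH
  rw [Finset.sum_congr rfl fun c _ => h1 c, ← blockPart_regular_eq hM hb f hs, blockPart_apply]
  refine Finset.sum_eq_zero fun φ _ => ?_
  split_ifs with hφ
  · refine mul_eq_zero_of_left ?_ _
    simp only [classInner_def, f, Finset.mul_sum, Finset.sum_mul]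
    rw [Finset.sum_comm]
    refine Finset.sum_eq_zero fun ψ _ => ?_
    split_ifs with hψ
    · have hψφ : ψ ≠ φ := fun h => hne (isPBlock_eq_of_mem hb hb' hφ (h ▸ hψ))
      have h2 := classInner_irr_ne ψ.2 φ.2 fun h => hψφ (Subtype.ext h)
      rw [classInner_def] at h2
      calc _ = (Nat.card (Subgroup.centralizer ({x} : Set G)) : ℂ)⁻¹ * conj ((ψ : Subgroup.centralizer ({x} : Set G) → ℂ) t) *
            ((Nat.card (Subgroup.centralizer ({x} : Set G)) : ℂ)⁻¹ *
              ∑ c, (ψ : Subgroup.centralizer ({x} : Set G) → ℂ) c *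
                conj ((φ : Subgroup.centralizer ({x} : Set G) → ℂ) c)) := by
            rw [Finset.mul_sum, Finset.mul_sum]
            exact Finset.sum_congr rfl fun c _ => by ring
        _ = 0 := by rw [h2, mul_zero]
    · simp
  · rfl

theorem sum_secH_ne (hM : IsPModular p M) {x : G} {H : Subgroup G}
    (hH : H = Subgroup.centralizer ({x} : Set G)) (hx : ∃ k : ℕ, orderOf x = p ^ k)
    {b b' : Set (IrrCharacter H)} (hb : IsPBlock M b) (hb' : IsPBlock M b') (hne : b ≠ b')
    {s t : H} (hs : ¬ p ∣ orderOf s) (ht : ¬ p ∣ orderOf t) :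
    ∑ χ : IrrCharacter G, secH x H b χ s * conj (secH x H b' χ t) = 0 := by
  subst hH
  have hexp : ∀ χ : IrrCharacter G,
      secH x (Subgroup.centralizer ({x} : Set G)) b χ s *
        conj (secH x (Subgroup.centralizer ({x} : Set G)) b' χ t) =
      ∑ c, ∑ c', BlockArith.blockKer p b s c * BlockArith.blockKer p b' t⁻¹ c' *
        ((χ : G → ℂ) (x * (c : G)) * (χ : G → ℂ) (x⁻¹ * (c' : G))) := by
    intro χ
    rw [secH_eq_sum hM rfl hb χ hs, secH_eq_sum hM rfl hb' χ ht, map_sum, Finset.sum_mul_sum]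
    refine Finset.sum_congr rfl fun c _ =>
      Fintype.sum_equiv (Equiv.inv _) _ _ fun c' => ?_
    rw [Equiv.inv_apply, blockKer_inv, map_mul, blockKer_conj_symm, Subgroup.coe_inv,
      ← char_inv (isCharacter_of_isIrr χ.2), mul_inv_rev,
      (commute_of_mem_centralizer c').inv_left.inv_right.eq]
    ring
  simp only [hexp]
  rw [Finset.sum_comm, ← mul_zero (Nat.card (Subgroup.centralizer ({x} : Set G)) : ℂ),
    ← sum_blockKer_ne hM rfl hb hb' hne hs t, Finset.mul_sum]
  refine Finset.sum_congr rfl fun c _ => ?_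
  rw [Finset.sum_comm]
  by_cases hc : p ∣ orderOf c
  · simp [blockKer_eq_zero b s hc]
  simp only [← Finset.mul_sum, mul_assoc]
  rw [sum_section_mul hx b' t⁻¹ c hc, blockKer_inv]
  ring

/-- **Different subsections have orthogonal columns.** -/
theorem sum_secH_cross (hM : IsPModular p M) {x x' : G} (hx : ∃ k : ℕ, orderOf x = p ^ k)
    (hx' : ∃ k : ℕ, orderOf x' = p ^ k)
    {b : Set (IrrCharacter (Cen (Subgroup.zpowers x)))} (hb : IsPBlock M b)
    {b' : Set (IrrCharacter (Cen (Subgroup.zpowers x')))} (hb' : IsPBlock M b')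
    (hne : ∀ g : G, g * x' * g⁻¹ = x →
      cjPair g (⟨Subgroup.zpowers x', b'⟩ : BrauerPairIdx G) ≠ ⟨Subgroup.zpowers x, b⟩)
    {s : Cen (Subgroup.zpowers x)} (hs : ¬ p ∣ orderOf s) {t : Cen (Subgroup.zpowers x')} (ht : ¬ p ∣ orderOf t) :
    ∑ χ : IrrCharacter G, secH x (Cen (Subgroup.zpowers x)) b χ s *
      conj (secH x' (Cen (Subgroup.zpowers x')) b' χ t) = 0 := by
  by_cases hc : IsConj x x'
  · obtain ⟨g, hg⟩ := isConj_iff.mp hc.symm
    have key : ∀ (a : BrauerPairIdx G), a.1 = Subgroup.zpowers x → a ≠ ⟨Subgroup.zpowers x, b⟩ →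
        IsPBlock M a.2 → ∀ t' : Cen a.1, ¬ p ∣ orderOf t' →
        ∑ χ : IrrCharacter G, secH x (Cen (Subgroup.zpowers x)) b χ s * conj (secH x (Cen a.1) a.2 χ t') = 0 := by
      rintro ⟨Q, f⟩ hQ hne' hf t' ht'
      obtain rfl : Q = Subgroup.zpowers x := hQ
      exact sum_secH_ne hM (cen_zpowers x) hx hb hf (fun h => hne' (by rw [h])) hs ht'
    have hcen : ∀ c : G, c ∈ Cen (Subgroup.zpowers x') ↔
        g * c * g⁻¹ ∈ Cen (cjPair g (⟨Subgroup.zpowers x', b'⟩ : BrauerPairIdx G)).1 := fun c => by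
      rw [cjPair_fst, mem_centralizer_map_conj]; simp [mul_assoc]
    let E : Cen (Subgroup.zpowers x') ≃* Cen (cjPair g (⟨Subgroup.zpowers x', b'⟩ : BrauerPairIdx G)).1 :=
      conjEquiv g _ _ fun y => by rw [hcen]; simp [mul_assoc]
    have hE : ∀ c, ((E c : Cen (cjPair g (⟨Subgroup.zpowers x', b'⟩ : BrauerPairIdx G)).1) : G) =
        g * (c : G) * g⁻¹ := fun c => rfl
    have hsec : ∀ χ : IrrCharacter G,
        secH x (Cen (cjPair g (⟨Subgroup.zpowers x', b'⟩ : BrauerPairIdx G)).1)
          (cjPair g (⟨Subgroup.zpowers x', b'⟩ : BrauerPairIdx G)).2 χ (E t) =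
          secH x' (Cen (Subgroup.zpowers x')) b' χ t := fun χ => by
      show blockPart (conjBlock (Subgroup.zpowers x') g b') _ (E t) = _
      rw [conjBlock_eq_tblock]
      refine (blockPart_tblock E b' _ t).trans ?_
      show blockPart b' (fun c => (χ : G → ℂ) (x * (E c : G))) t = _
      rw [secH]
      congr 1
      funext c
      rw [hE, ← hg, show g * x' * g⁻¹ * (g * (c : G) * g⁻¹) = g * (x' * (c : G)) * g⁻¹ by group,
        isClassFunction_of_isIrr χ.2]
    simp only [← hsec]
    refine key _ ?_ (hne g hg) ?_ _ (by rwa [MulEquiv.orderOf_eq])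
    · rw [cjPair_fst, map_conj_zpowers, hg]
    · show IsPBlock M (conjBlock (Subgroup.zpowers x') g b')
      rw [conjBlock_eq_tblock]
      exact isPBlock_tblock _ hb'
  · exact sum_secH_nonconj hM hx hx' hc hb hb' hs ht

/-- The column of an induced subsection is nonzero. -/
theorem exists_column (hM : IsPModular p M) {x : G} {H : Subgroup G}
    (hH : H = Subgroup.centralizer ({x} : Set G)) (hx : ∃ k : ℕ, orderOf x = p ^ k) {b : Set (IrrCharacter H)}
    (hind : IsInducedBlock M H b B) :
    ∃ s : H, ¬ p ∣ orderOf s ∧ ∃ χ ∈ B, secH x H b χ s ≠ 0 := by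
  subst hH
  by_contra! h
  have h1 := sum_contrib_self hM hx hind
  rw [Finset.sum_eq_zero fun χ _ => ?_] at h1
  · exact mul_ne_zero (Nat.cast_ne_zero.mpr (pow_ne_zero _ hp.out.ne_zero))
      (Nat.cast_ne_zero.mpr (blockRank_pos (p := p) hind.1).ne') h1.symm
  · split_ifs with hχ
    · rw [contrib, Finset.sum_eq_zero fun s _ => ?_, mul_zero]
      split_ifs with hs
      · rfl
      · rw [show secPart x b χ s = 0 from h s hs χ hχ, zero_mul]
    · rfl

omit hp in
/-- Against the part in a block the whole section may be replaced by its part in the block. -/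
theorem sum_reg_secH (hM : IsPModular p M) {x : G} {H : Subgroup G}
    (hH : H = Subgroup.centralizer ({x} : Set G)) {b : Set (IrrCharacter H)} (hb : IsPBlock M b)
    (χ η : IrrCharacter G) :
    regSum p (fun s : H => (χ : G → ℂ) (x * (s : G))) (secH x H b η) =
      regSum p (secH x H b χ) (secH x H b η) := by
  subst hH
  rw [regSum_eq, regSum_eq]
  symm
  calc _ = ∑ s : Subgroup.centralizer ({x} : Set G), ∑ c : Subgroup.centralizer ({x} : Set G),
        BlockArith.blockKer p b s c * (χ : G → ℂ) (x * (c : G)) * conj (secPart x b η s) := by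
        refine Finset.sum_congr rfl fun s _ => ?_
        split_ifs with hs
        · exact (Finset.sum_eq_zero fun c _ => by
            simp [BlockArith.blockKer, hs]).symm
        · show secPart x b χ s * _ = _
          rw [secPart_eq hM hb χ hs, Finset.sum_mul]
          rfl
    _ = _ := by
        rw [Finset.sum_comm]
        refine Finset.sum_congr rfl fun c _ => ?_
        split_ifs with hc
        · exact Finset.sum_eq_zero fun s _ => by simp [BlockArith.blockKer, hc]
        · show _ = (χ : G → ℂ) (x * (c : G)) * conj (secPart x b η c)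
          rw [← sum_blockKer_secPart hM hb η hc, map_sum, Finset.mul_sum]
          exact Finset.sum_congr rfl fun s _ => by rw [map_mul, blockKer_conj_symm]; ring

/-- The scalar product of a local integral class function with the part in a block is locally
integral after scaling by the defect. -/
theorem div_card_mul_regSum_mem (hM : IsPModular p M) {x : G} {H : Subgroup G}
    (hH : H = Subgroup.centralizer ({x} : Set G)) {b : Set (IrrCharacter H)} (hb : IsPBlock M b)
    (η : IrrCharacter G) {f : H → ℂ} (hf : IsClassFunction H f)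
    (hint : ∀ s : H, ¬ p ∣ orderOf s → f s ∈ locRing M) :
    ((p ^ blockDefect p b : ℕ) : ℂ) / (Nat.card H : ℂ) * regSum p f (secH x H b η) ∈ locRing M := by
  subst hH
  have hmem : x ∈ (Subgroup.centralizer ({x} : Set G)) := Subgroup.mem_centralizer_singleton_iff.mpr rfl
  let a : IrrCharacter (Subgroup.centralizer ({x} : Set G)) → ℂ := fun φ => classInner (fun c : (Subgroup.centralizer ({x} : Set G)) => (η : G → ℂ) (x * (c : G))) (φ : (Subgroup.centralizer ({x} : Set G)) → ℂ)
  have ha : ∀ φ, IsIntegral ℤ (a φ) := fun φ => by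
    obtain ⟨k, hk⟩ := classInner_char_nat (isCharacter_res (Subgroup.centralizer ({x} : Set G)) (isCharacter_of_isIrr η.2))
      (isCharacter_of_isIrr φ.2)
    show IsIntegral ℤ (classInner _ _)
    rw [classInner_shift hmem, hk]
    exact (isIntegral_centScal φ (mem_center_centralizer hmem)).mul (CfsgLib.CharBlocks.isIntegral_natCast k)
  let fr : CA (Subgroup.centralizer ({x} : Set G)) := ofFun fun c => if p ∣ orderOf c then 0 else f c⁻¹
  have hfr : fr ∈ Zint M (Subgroup.centralizer ({x} : Set G)) := by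
    rw [mem_Zint_iff]
    refine ⟨fun c => ?_, fun c w => ?_⟩
    · simp only [fr, coeff_ofFun]
      split_ifs with hc
      · exact Subring.zero_mem _
      · exact hint _ (by rwa [orderOf_inv])
    · simp only [fr, coeff_ofFun, show orderOf (w * c * w⁻¹) = orderOf c from (SemiconjBy.conj_mk w c).orderOf_eq.symm,
        show (w * c * w⁻¹)⁻¹ = w * c⁻¹ * w⁻¹ by group, hf c⁻¹ w]
  have hω : ∀ φ : IrrCharacter (Subgroup.centralizer ({x} : Set G)), ((zomega φ (⟨fr, hfr⟩ : Zint M (Subgroup.centralizer ({x} : Set G))) : locRing M) : ℂ) =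
      regSum p f (φ : (Subgroup.centralizer ({x} : Set G)) → ℂ) / (φ : (Subgroup.centralizer ({x} : Set G)) → ℂ) 1 := fun φ => by
    rw [coe_zomega, omega, charLin_apply, regSum_eq]
    congr 1
    refine Fintype.sum_equiv (Equiv.inv (Subgroup.centralizer ({x} : Set G))) _ _ fun c => ?_
    simp only [fr, coeff_ofFun, Equiv.inv_apply, orderOf_inv, char_inv (isCharacter_of_isIrr φ.2),
      Complex.conj_conj]
    split_ifs <;> simp
  have hexp : ((p ^ blockDefect p b : ℕ) : ℂ) / (Nat.card (Subgroup.centralizer ({x} : Set G)) : ℂ) * regSum p f (secH x (Subgroup.centralizer ({x} : Set G)) b η) =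
      ∑ φ : IrrCharacter (Subgroup.centralizer ({x} : Set G)), if φ ∈ b then conj (a φ) *
        (((p ^ blockDefect p b : ℕ) : ℂ) / (Nat.card (Subgroup.centralizer ({x} : Set G)) : ℂ) * (φ : (Subgroup.centralizer ({x} : Set G)) → ℂ) 1) *
        ((zomega φ (⟨fr, hfr⟩ : Zint M (Subgroup.centralizer ({x} : Set G))) : locRing M) : ℂ) else 0 := by
    have h1 : ∀ s : (Subgroup.centralizer ({x} : Set G)), secH x (Subgroup.centralizer ({x} : Set G)) b η s = ∑ φ : IrrCharacter (Subgroup.centralizer ({x} : Set G)), if φ ∈ b then a φ * (φ : (Subgroup.centralizer ({x} : Set G)) → ℂ) s else 0 :=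
      fun s => by rw [secH, blockPart_apply]
    simp only [regSum_eq, h1, map_sum, Finset.mul_sum]
    rw [Finset.sum_congr rfl (g := fun s => ∑ φ : IrrCharacter (Subgroup.centralizer ({x} : Set G)),
      ((p ^ blockDefect p b : ℕ) : ℂ) / (Nat.card (Subgroup.centralizer ({x} : Set G)) : ℂ) * (if φ ∈ b then
        conj (a φ) * (if p ∣ orderOf s then 0 else f s * conj ((φ : (Subgroup.centralizer ({x} : Set G)) → ℂ) s)) else 0)) fun s _ => by
      split_ifs with hs
      · simp
      · rw [Finset.mul_sum]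
        exact Finset.sum_congr rfl fun φ _ => by
          split_ifs <;> simp only [map_mul, map_zero, mul_zero, zero_mul] <;> ring,
      Finset.sum_comm]
    refine Finset.sum_congr rfl fun φ _ => ?_
    split_ifs with hφ
    · rw [hω, regSum_eq, ← Finset.mul_sum, ← Finset.mul_sum]
      field_simp [irr_one_ne_zero φ.2]
    · simp
  rw [hexp]
  refine Subring.sum_mem _ fun φ _ => ?_
  split_ifs with hφ
  · refine Subring.mul_mem _ (Subring.mul_mem _ (algInt_le_locRing M (map_isIntegral_int (starRingEnd ℂ) (ha φ))) ?_)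
      (SetLike.coe_mem _)
    set N := Nat.card (Subgroup.centralizer ({x} : Set G)) with hN
    set aN := N.factorization p with haN
    set n' := N / p ^ aN with hn'
    have hdeg := degree_height hM hb hφ
    rw [← hN, ← haN] at hdeg
    set v := (charDegree (φ : (Subgroup.centralizer ({x} : Set G)) → ℂ)).factorization p with hv
    set d' := charDegree (φ : (Subgroup.centralizer ({x} : Set G)) → ℂ) / p ^ v with hd'
    have hdd : charDegree (φ : (Subgroup.centralizer ({x} : Set G)) → ℂ) = p ^ v * d' := (Nat.ordProj_mul_ordCompl_eq_self _ _).symm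
    have hNN : N = p ^ aN * n' := (Nat.ordProj_mul_ordCompl_eq_self _ _).symm
    have hn0 : n' ≠ 0 := (Nat.ordCompl_pos p Nat.card_pos.ne').ne'
    have hval : ((p ^ blockDefect p b : ℕ) : ℂ) / (N : ℂ) * (φ : (Subgroup.centralizer ({x} : Set G)) → ℂ) 1 =
        (((p ^ blockHeight p b (φ : (Subgroup.centralizer ({x} : Set G)) → ℂ) * d' : ℕ) : ℤ) : ℂ) / (n' : ℂ) := by
      have he : p ^ blockDefect p b * p ^ v = p ^ aN * p ^ blockHeight p b (φ : (Subgroup.centralizer ({x} : Set G)) → ℂ) := by
        rw [← pow_add, ← pow_add]; congr 1; omega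
      have he' : ((p ^ blockDefect p b : ℕ) : ℂ) * ((p ^ v : ℕ) : ℂ) =
          ((p ^ aN : ℕ) : ℂ) * ((p ^ blockHeight p b (φ : (Subgroup.centralizer ({x} : Set G)) → ℂ) : ℕ) : ℂ) := by exact_mod_cast he
      have hpa : ((p ^ aN : ℕ) : ℂ) ≠ 0 := Nat.cast_ne_zero.mpr (pow_ne_zero _ hp.out.ne_zero)
      rw [CfsgLib.Blocks.charDegree_eq (isCharacter_of_isIrr φ.2), hdd, hNN]
      push_cast at he' hpa ⊢
      field_simp [hpa, Nat.cast_ne_zero.mpr hn0]
      linear_combination (d' : ℂ) * he'
    rw [hval]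
    refine ⟨(((p ^ blockHeight p b (φ : (Subgroup.centralizer ({x} : Set G)) → ℂ) * d' : ℕ) : ℤ) : AlgInt), (n' : AlgInt),
      fun h => Nat.not_dvd_ordCompl hp.out Nat.card_pos.ne' ((natCast_mem_iff hM n').mp h), ?_⟩
    simp
  · exact Subring.zero_mem _

end CfsgLib.DihDefect
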