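import Cfsg.Agent.Lib.Invol.DihedralSylow
import Cfsg.Agent.Lib.BrauerPairs.Nilpotent

/-!
# Odd elements normalising subgroups of dihedral 2-groups

* `DData`: a dihedral subgroup of order `2 m`;
* `odd_centralizes`: an element of odd order centralising the central involution centralises every
  subgroup of the dihedral group that it normalises;
* `zz_mem_zpowers`, `zpowers_eq`, `card_commuting`.
-/

set_option autoImplicit false

namespace CfsgLib.DihDefect

open DihedralGroup CfsgLib.Invol.DihedralSylow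

variable {G : Type*} [Group G] {m h : ℕ}

/-- A dihedral 2-subgroup with the central involution `ι (r h)`. -/
structure DData (D : Subgroup G) (ι : DihedralGroup m →* G) (h : ℕ) : Prop where
  inj : Function.Injective ι
  range : ι.range = D
  hm : m = 2 * h
  hpos : 0 < h
  even : Even h
  pow : ∃ a : ℕ, m = 2 ^ a

variable {D : Subgroup G} {ι : DihedralGroup m →* G}

theorem DData.neZero (d : DData D ι h) : NeZero m := ⟨by rw [d.hm]; have := d.hpos; omega⟩

theorem DData.mem (d : DData D ι h) (x : DihedralGroup m) : ι x ∈ D := d.range ▸ ⟨x, rfl⟩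

theorem DData.surj (d : DData D ι h) {y : G} (hy : y ∈ D) : ∃ x, ι x = y := by
  rw [← d.range] at hy; exact hy

theorem DData.card (d : DData D ι h) : Nat.card D = 2 * m := by
  rw [← d.range, ← Nat.card_congr (MonoidHom.ofInjective d.inj).toEquiv, DihedralGroup.nat_card]

theorem DData.isPGroup (d : DData D ι h) : IsPGroup 2 D := by
  obtain ⟨a, ha⟩ := d.pow
  exact IsPGroup.of_card (n := a + 1) (by rw [d.card, ha, pow_succ]; ring)

theorem DData.orderOf_zz (d : DData D ι h) : orderOf (ι (r (h : ZMod m))) = 2 := by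
  rw [orderOf_injective ι d.inj, orderOf_half d.hm d.hpos]

theorem DData.zz_comm (d : DData D ι h) {y : G} (hy : y ∈ D) :
    y * ι (r (h : ZMod m)) = ι (r (h : ZMod m)) * y := by
  obtain ⟨x, rfl⟩ := d.surj hy
  rw [← map_mul, ← map_mul, half_central d.hm]

theorem DData.le_cen (d : DData D ι h) :
    D ≤ Subgroup.centralizer ((Subgroup.zpowers (ι (r (h : ZMod m))) : Subgroup G) : Set G) := by
  intro y hy
  rw [Subgroup.zpowers_eq_closure, Subgroup.centralizer_closure, Subgroup.mem_centralizer_singleton_iff]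
  exact d.zz_comm hy

/-- The rotations. -/
def rot (ι : DihedralGroup m →* G) : Multiplicative (ZMod m) →* G :=
  MonoidHom.mk' (fun i => ι (r i.toAdd)) fun a b => by rw [← map_mul, r_mul_r]; rfl

theorem mem_rot {y : G} : y ∈ (rot ι).range ↔ ∃ i : ZMod m, ι (r i) = y :=
  ⟨fun ⟨i, hi⟩ => ⟨i.toAdd, hi⟩, fun ⟨i, hi⟩ => ⟨Multiplicative.ofAdd i, hi⟩⟩

instance isCyclic_rot_range : IsCyclic (rot ι).range := isCyclic_of_surjective _ (rot ι).rangeRestrict_surjective

theorem DData.eq_one_or_zz (d : DData D ι h) {i : ZMod m} (hi : ι (r i) * ι (r i) = 1) :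
    ι (r i) = 1 ∨ ι (r i) = ι (r (h : ZMod m)) := by
  rw [← map_mul, r_mul_r, ← map_one ι, d.inj.eq_iff, one_def, r.injEq, ← two_mul] at hi
  rcases two_cancel d.hm d.hpos hi with rfl | rfl
  · left; rw [r_zero, map_one]
  · exact Or.inr rfl

/-- An element of a dihedral group of order more than two is a rotation. -/
theorem DData.rot_of_sq_ne (d : DData D ι h) {y : G} (hy : y ∈ D) (h2 : y * y ≠ 1) :
    y ∈ (rot ι).range := by
  obtain ⟨x, rfl⟩ := d.surj hy
  rcases x with i | i
  · exact mem_rot.mpr ⟨i, rfl⟩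
  · rw [← map_mul, sr_mul_self, map_one] at h2
    exact absurd rfl h2

/-- An element of odd order normalising a cyclic 2-subgroup centralises it. -/
theorem odd_centralizes_cyclic [Finite G] {Q : Subgroup G} [IsCyclic Q] (hQ : IsPGroup 2 Q) {y : G}
    (hy : y ∈ Subgroup.normalizer (Q : Set G)) (hodd : ¬ 2 ∣ orderOf y) :
    y ∈ Subgroup.centralizer (Q : Set G) := by
  have : Fact (Nat.Prime 2) := ⟨Nat.prime_two⟩
  obtain ⟨k, hk⟩ := IsPGroup.iff_card.mp hQ
  have hcard : ∃ j, Nat.card (MulAut Q) = 2 ^ j := by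
    rw [IsCyclic.card_mulAut, hk]
    rcases k with _ | k
    · exact ⟨0, by simp⟩
    · exact ⟨k, by rw [Nat.totient_prime_pow Nat.prime_two (Nat.succ_pos k)]; simp⟩
  obtain ⟨j, hj⟩ := hcard
  set φ := Q.normalizerMonoidHom ⟨y, hy⟩ with hφ
  have h1 : orderOf φ ∣ orderOf y := by
    have := orderOf_map_dvd Q.normalizerMonoidHom (⟨y, hy⟩ : Subgroup.normalizer (Q : Set G))
    rwa [Subgroup.orderOf_mk] at this
  have h2 : orderOf φ ∣ 2 ^ j := hj ▸ orderOf_dvd_natCard φ
  have hco : Nat.Coprime (orderOf y) (2 ^ j) :=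
    Nat.Coprime.pow_right _ ((Nat.prime_two.coprime_iff_not_dvd.mpr hodd).symm)
  have h3 : φ = 1 := orderOf_eq_one_iff.mp (Nat.eq_one_of_dvd_coprimes hco h1 h2)
  refine Subgroup.mem_centralizer_iff.mpr fun u hu => ?_
  have h4 : y * u * y⁻¹ = u := congrArg Subtype.val (DFunLike.congr_fun h3 (⟨u, hu⟩ : Q))
  exact (mul_inv_eq_iff_eq_mul.mp h4).symm

/-- **No fusion of odd order over the central involution.** -/
theorem DData.odd_centralizes [Finite G] (d : DData D ι h) {Q : Subgroup G} (hQ : Q ≤ D) {y : G}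
    (hy : y ∈ Subgroup.normalizer (Q : Set G)) (hodd : ¬ 2 ∣ orderOf y)
    (hyz : y * ι (r (h : ZMod m)) = ι (r (h : ZMod m)) * y) : y ∈ Subgroup.centralizer (Q : Set G) := by
  set z := ι (r (h : ZMod m)) with hz
  set Q' := Q ⊔ Subgroup.zpowers z with hQ'
  have hzD : z ∈ D := d.mem _
  have hQ'D : Q' ≤ D := sup_le hQ (Subgroup.zpowers_le.mpr hzD)
  have hmap : Q'.map (MulAut.conj y).toMonoidHom = Q' := by
    rw [hQ', Subgroup.map_sup, BrauerPairs.map_conj_eq_self hy, MonoidHom.map_zpowers]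
    congr 2
    show y * z * y⁻¹ = z
    rw [hyz, mul_inv_cancel_right]
  have hy' : ∀ x ∈ Q', y * x * y⁻¹ ∈ Q' := fun x hx => hmap.le ⟨x, hx, rfl⟩
  set R := Q' ⊓ (rot ι).range with hR
  have hRP : IsPGroup 2 R := d.isPGroup.to_le (inf_le_left.trans hQ'D)
  have : IsCyclic R := Subgroup.isCyclic_of_le inf_le_right
  have hRy : ∀ x ∈ R, y * x * y⁻¹ ∈ R := by
    intro x hx
    refine ⟨hy' x hx.1, ?_⟩
    by_cases h2 : x * x = 1
    · obtain ⟨i, rfl⟩ := mem_rot.mp hx.2
      rcases d.eq_one_or_zz h2 with e | e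
      · rw [e, mul_one, mul_inv_cancel]; exact Subgroup.one_mem _
      · rw [e, hyz, mul_inv_cancel_right]; exact mem_rot.mpr ⟨_, rfl⟩
    · refine d.rot_of_sq_ne (hQ'D (hy' x hx.1)) fun he => h2 ?_
      have he' : y * (x * x) * y⁻¹ = 1 := by rw [← he]; group
      exact conj_eq_one_iff.mp he'
  have hyR : y ∈ Subgroup.normalizer (R : Set G) := by
    rw [Subgroup.mem_normalizer_iff_map_conj_eq]
    refine Subgroup.eq_of_le_of_card_ge ?_ (Subgroup.card_map_of_injective (MulEquiv.injective _)).ge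
    rintro _ ⟨x, hx, rfl⟩
    exact hRy x hx
  have hfix := odd_centralizes_cyclic hRP hyR hodd
  refine Subgroup.mem_centralizer_iff.mpr fun x hxQ => ?_
  have hx : x ∈ Q' := le_sup_left (a := Q) hxQ
  by_cases hxr : x ∈ (rot ι).range
  · exact Subgroup.mem_centralizer_iff.mp hfix x ⟨hx, hxr⟩
  have ht : x⁻¹ * (y * x * y⁻¹) ∈ R := by
    refine ⟨Q'.mul_mem (Q'.inv_mem hx) (hy' x hx), ?_⟩
    obtain ⟨a, ha⟩ := d.surj (hQ'D hx)
    obtain ⟨b, hb⟩ := d.surj (hQ'D (hy' x hx))
    have hnb : y * x * y⁻¹ ∉ (rot ι).range := fun hb' => by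
      refine hxr ((?_ : x ∈ R).2)
      have h1 : x ∈ (MulAut.conj y).toMonoidHom ⁻¹' (R : Set G) := ⟨hy' x hx, hb'⟩
      obtain ⟨x', hx', he⟩ := (Subgroup.mem_normalizer_iff_map_conj_eq.mp hyR).ge h1
      exact (MulEquiv.injective (MulAut.conj y) he) ▸ hx'
    rw [← hb, ← ha, ← map_inv, ← map_mul]
    rcases a with i | i
    · exact absurd (mem_rot.mpr ⟨i, ha⟩) hxr
    rcases b with j | j
    · exact absurd (mem_rot.mpr ⟨j, hb⟩) hnb
    rw [inv_sr, sr_mul_sr]
    exact mem_rot.mpr ⟨_, rfl⟩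
  set t := x⁻¹ * (y * x * y⁻¹) with htdef
  have hyt : y * t = t * y := (Subgroup.mem_centralizer_iff.mp hfix t ht).symm
  have hiter : ∀ n : ℕ, y ^ n * x * (y ^ n)⁻¹ = x * t ^ n := fun n => by
    induction n with
    | zero => simp
    | succ n ih =>
      calc y ^ (n + 1) * x * (y ^ (n + 1))⁻¹ = y * (y ^ n * x * (y ^ n)⁻¹) * y⁻¹ := by
            rw [pow_succ']; group
        _ = y * x * y⁻¹ * (y * t ^ n * y⁻¹) := by rw [ih]; group
        _ = x * t * t ^ n := by
            rw [((show Commute y t from hyt).pow_right n).eq, mul_inv_cancel_right, htdef, mul_inv_cancel_left]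
        _ = x * t ^ (n + 1) := by rw [pow_succ', mul_assoc]
  have h1 := hiter (orderOf y)
  rw [pow_orderOf_eq_one, one_mul, inv_one, mul_one, left_eq_mul] at h1
  obtain ⟨k, hk⟩ := IsPGroup.iff_orderOf.mp hRP ⟨t, ht⟩
  rw [Subgroup.orderOf_mk] at hk
  have hdt := orderOf_dvd_of_pow_eq_one h1
  rw [hk] at hdt
  have hk0 : k = 0 := by
    by_contra hk0
    exact hodd ((dvd_pow_self 2 hk0).trans hdt)
  rw [hk0, pow_zero, orderOf_eq_one_iff, htdef, inv_mul_eq_one] at hk
  exact mul_inv_eq_iff_eq_mul.mp hk.symm |>.symm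

/-- A nontrivial rotation generates a subgroup containing the central involution. -/
theorem DData.zz_mem_zpowers (d : DData D ι h) {l : ZMod m} (hl : l ≠ 0) :
    ι (r (h : ZMod m)) ∈ Subgroup.zpowers (ι (r l)) := by
  have := d.neZero
  obtain ⟨k, hk⟩ := IsPGroup.iff_orderOf.mp d.isPGroup ⟨_, d.mem (r l)⟩
  rw [Subgroup.orderOf_mk] at hk
  obtain ⟨k, rfl⟩ : ∃ k', k = k' + 1 := by
    refine ⟨k - 1, ?_⟩
    rcases k with _ | k
    · rw [pow_zero, orderOf_eq_one_iff, ← map_one ι, d.inj.eq_iff, one_def, r.injEq] at hk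
      exact absurd hk hl
    · rfl
  have ho : orderOf (ι (r l) ^ 2 ^ k) = 2 := by
    rw [orderOf_pow' _ (pow_ne_zero _ two_ne_zero), hk,
      Nat.gcd_eq_right (Dvd.intro 2 (pow_succ 2 k).symm), pow_succ, Nat.mul_div_cancel_left _ (pow_pos two_pos k)]
  obtain ⟨i, hi⟩ : ∃ i : ZMod m, ι (r i) = ι (r l) ^ 2 ^ k :=
    mem_rot.mp (Subgroup.pow_mem _ (mem_rot.mpr ⟨l, rfl⟩) _)
  have h2 : ι (r i) * ι (r i) = 1 := by
    have := pow_orderOf_eq_one (ι (r l) ^ 2 ^ k)
    rwa [ho, pow_two, ← hi] at this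
  rcases d.eq_one_or_zz h2 with e | e
  · rw [← hi, e, orderOf_one] at ho
    omega
  · rw [← e, hi]
    exact Subgroup.pow_mem _ (Subgroup.mem_zpowers _) _

/-- Rotations of the same order generate the same subgroup. -/
theorem DData.zpowers_eq (d : DData D ι h) {l l' : ZMod m} (ho : orderOf (ι (r l')) = orderOf (ι (r l))) :
    Subgroup.zpowers (ι (r l')) = Subgroup.zpowers (ι (r l)) := by
  classical
  have := d.neZero
  have : Finite (rot ι).range := Finite.of_surjective _ (rot ι).rangeRestrict_surjective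
  have := Fintype.ofFinite (rot ι).range
  set a : (rot ι).range := ⟨_, mem_rot.mpr ⟨l, rfl⟩⟩ with ha
  set b : (rot ι).range := ⟨_, mem_rot.mpr ⟨l', rfl⟩⟩ with hb
  have hoa : orderOf a = orderOf (ι (r l)) := Subgroup.orderOf_mk _ _
  have hob : orderOf b = orderOf (ι (r l')) := Subgroup.orderOf_mk _ _
  suffices hs : Subgroup.zpowers b = Subgroup.zpowers a by
    have := congrArg (Subgroup.map (rot ι).range.subtype) hs
    rwa [MonoidHom.map_zpowers, MonoidHom.map_zpowers] at this
  set n := orderOf (ι (r l)) with hn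
  have hpos : 0 < n := hoa ▸ orderOf_pos a
  have hsub : ∀ c : (rot ι).range, orderOf c = n → (Subgroup.zpowers c : Set (rot ι).range).toFinset =
      Finset.univ.filter fun x => x ^ n = 1 := fun c hc => by
    refine Finset.eq_of_subset_of_card_le (fun x hx => ?_) ?_
    · rw [Set.mem_toFinset, SetLike.mem_coe] at hx
      refine Finset.mem_filter.mpr ⟨Finset.mem_univ _, orderOf_dvd_iff_pow_eq_one.mp ?_⟩
      rw [← hc]
      exact orderOf_dvd_of_mem_zpowers hx
    · refine (IsCyclic.card_pow_eq_one_le hpos).trans_eq ?_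
      rw [Set.toFinset_card, ← Nat.card_eq_fintype_card]
      exact (Nat.card_zpowers c).trans hc |>.symm
  exact SetLike.coe_injective (Set.toFinset_inj.mp ((hsub b (hob.trans ho)).trans (hsub a hoa).symm))

/-- The number of elements commuting with a rotation. -/
theorem DData.card_commuting (d : DData D ι h) {l : ZMod m} (hl : l ≠ 0) :
    Nat.card {w : DihedralGroup m // w * r l = r l * w} = if l = (h : ZMod m) then 2 * m else m := by
  have := d.neZero
  split_ifs with hlh
  · subst hlh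
    rw [Nat.card_congr (Equiv.subtypeUnivEquiv fun w => half_central d.hm w), DihedralGroup.nat_card]
  · have e : {w : DihedralGroup m // w * r l = r l * w} ≃ ZMod m :=
      { toFun := fun w => match w.1 with
          | r i => i
          | sr i => i
        invFun := fun i => ⟨r i, by rw [r_mul_r, r_mul_r, add_comm]⟩
        left_inv := fun w => by
          obtain ⟨w | w, hw⟩ := w
          · rfl
          · exfalso
            rw [sr_mul_r, r_mul_sr, sr.injEq] at hw
            have h2 : 2 * l = 0 := by linear_combination hw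
            rcases two_cancel d.hm d.hpos h2 with e | e
            · exact hl e
            · exact hlh e
        right_inv := fun i => rfl }
    rw [Nat.card_congr e, Nat.card_zmod]

end CfsgLib.DihDefect
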