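import Cfsg.Agent.Lib.Blocks.DihBlock.Rows

/-!
# Coefficients of functions on the rotations of a dihedral group

* `coef`: differences of the multiplicities of the characters of the rotations;
* `coef_gram`, `value_eq_sum`, `coef_neg`: their basic properties;
* `exists_int_coef`: integrality for generalised characters of the dihedral group;
* `value_half`, `value_one_eight`: the values at the middle and at the first rotation.
-/

set_option autoImplicit false

noncomputable section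

open scoped Classical ComplexConjugate

namespace CfsgLib.DihDefect

open Cfsg CfsgLib.Char DihedralGroup CfsgLib.Blocks

variable {m : ℕ} [NeZero m] {ψ : AddChar (ZMod m) ℂ}

/-- The difference of the multiplicity of `ψ (j * ·)` and that of the trivial character. -/
def coef (ψ : AddChar (ZMod m) ℂ) (R : ZMod m → ℂ) (j : ZMod m) : ℂ :=
  (m : ℂ)⁻¹ * ∑ l : ZMod m, R l * (ψ (-(j * l)) - 1)

theorem coef_zero (R : ZMod m → ℂ) : coef ψ R 0 = 0 := by simp [coef]

/-- The inversion formula off the identity. -/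
theorem value_eq_sum (hψ : ψ.IsPrimitive) (R : ZMod m → ℂ) {l : ZMod m} (hl : l ≠ 0) :
    R l = ∑ j : ZMod m, coef ψ R j * ψ (j * l) := by
  simp only [coef, mul_assoc, Finset.sum_mul, ← Finset.mul_sum]
  rw [Finset.sum_comm]
  have h1 : ∀ k : ZMod m, ∑ j : ZMod m, R k * ((ψ (-(j * k)) - 1) * ψ (j * l)) =
      if k = l then R k * m else 0 := fun k => by
    rw [← Finset.mul_sum]
    have e : ∀ j : ZMod m, (ψ (-(j * k)) - 1) * ψ (j * l) = ψ (j * (l - k)) - ψ (j * l) := fun j => by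
      rw [sub_mul, one_mul, ← AddChar.map_add_eq_mul]
      congr 2
      ring
    simp only [e, Finset.sum_sub_distrib, DihBlock.sum_psi_mul hψ, if_neg hl, sub_zero, sub_eq_zero]
    by_cases h : k = l
    · rw [if_pos h.symm, if_pos h]
    · rw [if_neg (Ne.symm h), if_neg h, mul_zero]
  rw [Finset.sum_congr rfl fun k _ => h1 k, Finset.sum_ite_eq', if_pos (Finset.mem_univ _)]
  field_simp [DihBlock.m_ne_zero (m := m)]

theorem coef_neg {R : ZMod m → ℂ} (hR : ∀ l, R (-l) = R l) (j : ZMod m) : coef ψ R (-j) = coef ψ R j := by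
  unfold coef
  congr 1
  refine Fintype.sum_equiv (Equiv.neg _) _ _ fun l => ?_
  rw [Equiv.neg_apply, hR, neg_mul, mul_neg]

/-- The Gram matrix of the coefficients. -/
theorem coef_gram {α : Type*} (hψ : ψ.IsPrimitive) (S : Finset α) (R : α → ZMod m → ℂ)
    (horth : ∀ l l' : ZMod m, l ≠ 0 → l' ≠ 0 → ∑ x ∈ S, R x l * conj (R x l') =
      (m : ℂ) * ((if l' = l then 1 else 0) + if l' = -l then 1 else 0)) {i j : ZMod m} (hi : i ≠ 0)
    (hj : j ≠ 0) :
    ∑ x ∈ S, coef ψ (R x) i * conj (coef ψ (R x) j) =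
      ((if i = j then 1 else 0) + (if i = -j then 1 else 0) + 2 : ℂ) := by
  let a : ZMod m → ZMod m → ℂ := fun i l => ψ (-(i * l)) - 1
  have hexp : ∀ x, coef ψ (R x) i * conj (coef ψ (R x) j) =
      (m : ℂ)⁻¹ * (m : ℂ)⁻¹ * ∑ l : ZMod m, ∑ l' : ZMod m, a i l * conj (a j l') *
        (R x l * conj (R x l')) := by
    intro x
    simp only [coef, map_mul, map_inv₀, map_natCast, map_sum]
    rw [mul_mul_mul_comm, Finset.sum_mul_sum]
    refine congrArg _ (Finset.sum_congr rfl fun l _ => Finset.sum_congr rfl fun l' _ => ?_)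
    simp only [a]; ring
  have ha0 : ∀ i, a i 0 = 0 := fun i => by simp [a]
  have hinner : ∀ l l' : ZMod m, ∑ x ∈ S, a i l * conj (a j l') * (R x l * conj (R x l')) =
      a i l * conj (a j l') * ((m : ℂ) * ((if l' = l then 1 else 0) + if l' = -l then 1 else 0)) := by
    intro l l'
    rw [← Finset.mul_sum]
    by_cases hl : l = 0
    · simp [hl, ha0]
    by_cases hl' : l' = 0
    · simp [hl', ha0]
    rw [horth l l' hl hl']
  rw [Finset.sum_congr rfl fun x _ => hexp x, ← Finset.mul_sum, Finset.sum_comm,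
    Finset.sum_congr rfl fun l _ => Finset.sum_comm,
    Finset.sum_congr rfl fun l _ => Finset.sum_congr rfl fun l' _ => hinner l l']
  simp only [mul_add, mul_ite, mul_one, mul_zero, Finset.sum_add_distrib, Finset.sum_ite_eq', Finset.mem_univ,
    if_true]
  have hconj : ∀ l, conj (a j l) = ψ (j * l) - 1 := fun l => by
    simp only [a, map_sub, map_one, ← AddChar.map_neg_eq_conj, neg_neg]
  simp only [hconj]
  have e1 : ∀ l, a i l * (ψ (j * l) - 1) =
      ψ (l * (j - i)) - ψ (l * (-i)) - ψ (l * j) + 1 := fun l => by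
    simp only [a, sub_mul, mul_sub, one_mul, mul_one, ← AddChar.map_add_eq_mul]
    rw [show -(i * l) + j * l = l * (j - i) by ring, show -(i * l) = l * (-i) by ring, mul_comm j l]
    ring
  have e2 : ∀ l, a i l * (ψ (j * -l) - 1) =
      ψ (l * (-(j + i))) - ψ (l * (-i)) - ψ (l * (-j)) + 1 := fun l => by
    simp only [a, sub_mul, mul_sub, one_mul, mul_one, ← AddChar.map_add_eq_mul]
    rw [show -(i * l) + j * -l = l * (-(j + i)) by ring, show -(i * l) = l * (-i) by ring,
      show j * -l = l * (-j) by ring]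
    ring
  simp only [← Finset.sum_mul, e1, e2, Finset.sum_add_distrib, Finset.sum_sub_distrib,
    DihBlock.sum_psi_mul hψ, Finset.sum_const, Finset.card_univ, ZMod.card, nsmul_eq_mul, mul_one, neg_eq_zero,
    if_neg hi, if_neg hj, sub_zero]
  have c1 : (j - i = 0) ↔ i = j := by rw [sub_eq_zero]; exact eq_comm
  have c2 : (j + i = 0) ↔ i = -j := by rw [add_eq_zero_iff_eq_neg']
  simp only [c1, c2]
  have hm0 : (m : ℂ) ≠ 0 := DihBlock.m_ne_zero
  split_ifs <;> field_simp <;> ring

section DihedralClassFun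

variable {P : Type*} [Group P] [Fintype P]

theorem genchar_conj {f : P → ℂ} (hf : IsClassFunction P f)
    (hint : ∀ μ : IrrCharacter P, ∃ k : ℤ, classInner f (μ : P → ℂ) = k) (g : P) : conj (f g) = f g⁻¹ := by
  have h : ∀ x, f x = ∑ μ : IrrCharacter P, classInner f (μ : P → ℂ) * (μ : P → ℂ) x := fun x => by
    conv_lhs => rw [classFun_eq_sum hf]
    simp only [Finset.sum_apply, Pi.smul_apply, smul_eq_mul]
  rw [h g, h g⁻¹, map_sum]
  refine Finset.sum_congr rfl fun μ _ => ?_
  obtain ⟨k, hk⟩ := hint μ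
  rw [map_mul, hk, map_intCast, char_inv (isCharacter_of_isIrr μ.2)]

theorem classFun_rot_neg {f : P → ℂ} (hf : IsClassFunction P f) (ε : DihedralGroup m ≃* P) (l : ZMod m) :
    f (ε (r (-l))) = f (ε (r l)) := by
  rw [← hf (ε (r l)) (ε (sr 0)), ← map_inv, ← map_mul, ← map_mul, inv_sr, sr_mul_r, sr_mul_sr, zero_sub,
    zero_add]

theorem genchar_rot_conj {f : P → ℂ} (hf : IsClassFunction P f)
    (hint : ∀ μ : IrrCharacter P, ∃ k : ℤ, classInner f (μ : P → ℂ) = k) (ε : DihedralGroup m ≃* P)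
    (l : ZMod m) : conj (f (ε (r l))) = f (ε (r l)) := by
  rw [genchar_conj hf hint, ← map_inv, inv_r, classFun_rot_neg hf]

/-- The coefficients of a generalised character are integers. -/
theorem exists_int_coef {f : P → ℂ} (hf : IsClassFunction P f)
    (hint : ∀ μ : IrrCharacter P, ∃ k : ℤ, classInner f (μ : P → ℂ) = k) (ε : DihedralGroup m ≃* P)
    (j : ZMod m) : ∃ u : ℤ, coef ψ (fun l => f (ε (r l))) j = (u : ℂ) := by
  choose k hk using hint
  choose n hn using fun μ : IrrCharacter P =>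
    DihBlock.exists_int_rotCoef (ι := ε.toMonoidHom) (ψ := ψ) μ j
  refine ⟨∑ μ : IrrCharacter P, k μ * n μ, ?_⟩
  have h : ∀ x, f x = ∑ μ : IrrCharacter P, (k μ : ℂ) * (μ : P → ℂ) x := fun x => by
    conv_lhs => rw [classFun_eq_sum hf]
    simp only [Finset.sum_apply, Pi.smul_apply, smul_eq_mul, hk]
  push_cast
  simp only [← hn, coef, DihBlock.rotCoef, h, Finset.sum_mul, Finset.mul_sum, MulEquiv.coe_toMonoidHom]
  rw [Finset.sum_comm]
  exact Finset.sum_congr rfl fun μ _ => Finset.sum_congr rfl fun l _ => by ring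

end DihedralClassFun

theorem psi_half (hψ : ψ.IsPrimitive) {h : ℕ} (hm : m = 2 * h) (hh : 0 < h) : ψ (h : ZMod m) = -1 := by
  have h2 : ψ (h : ZMod m) * ψ (h : ZMod m) = 1 := by
    rw [← AddChar.map_add_eq_mul, ← Nat.cast_add, show h + h = m by omega, ZMod.natCast_self,
      AddChar.map_zero_eq_one]
  rcases mul_self_eq_one_iff.mp h2 with e | e
  · refine absurd ?_ (hψ (a := (h : ZMod m)) ?_)
    · refine DFunLike.ext _ _ fun l => ?_
      rw [AddChar.mulShift_apply, AddChar.one_apply, ← ZMod.natCast_zmod_val l, mul_comm, ← nsmul_eq_mul,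
        AddChar.map_nsmul_eq_pow, e, one_pow]
    · rw [Ne, ZMod.natCast_eq_zero_iff]
      exact Nat.not_dvd_of_pos_of_lt hh (by omega)
  · exact e

theorem sum_range_fold {A : Type*} [AddCommMonoid A] (F : ℕ → A) {m h : ℕ} (hm : m = 2 * h) (hh : 0 < h) :
    ∑ i ∈ Finset.range m, F i = F 0 + F h + ∑ i ∈ Finset.range (h - 1), (F (i + 1) + F (m - (i + 1))) := by
  obtain ⟨k, rfl⟩ : ∃ k, h = k + 1 := ⟨h - 1, by omega⟩
  obtain rfl : m = k + 1 + (k + 1) := by omega
  have h2 : ∑ x ∈ Finset.range k, F (k + 1 + (k + 1) - (x + 1)) = ∑ x ∈ Finset.range k, F (k + 1 + (x + 1)) := by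
    rw [← Finset.sum_range_reflect (fun x => F (k + 1 + (x + 1))) k]
    exact Finset.sum_congr rfl fun x hx => congrArg F (by have := Finset.mem_range.mp hx; omega)
  rw [Finset.sum_range_add, Finset.sum_range_succ', Finset.sum_range_succ' (fun x => F (k + 1 + x)),
    Nat.add_sub_cancel, Finset.sum_add_distrib, h2, add_zero]
  abel

/-- The value at the middle rotation. -/
theorem value_half (hψ : ψ.IsPrimitive) {h : ℕ} (hm : m = 2 * h) (hh : 0 < h) (he : Even h) (R : ZMod m → ℂ)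
    (hR : ∀ l, R (-l) = R l) :
    R (h : ZMod m) = coef ψ R (h : ZMod m) +
      2 * ∑ i : Fin (h - 1), (-1 : ℂ) ^ ((i : ℕ) + 1) * coef ψ R (((i : ℕ) + 1 : ℕ) : ZMod m) := by
  have hne : (h : ZMod m) ≠ 0 := by
    rw [Ne, ZMod.natCast_eq_zero_iff]
    exact Nat.not_dvd_of_pos_of_lt hh (by omega)
  rw [value_eq_sum hψ R hne]
  set F : ℕ → ℂ := fun i => coef ψ R (i : ZMod m) * (-1) ^ i with hF
  have hterm : ∑ j : ZMod m, coef ψ R j * ψ (j * (h : ZMod m)) = ∑ i ∈ Finset.range m, F i := by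
    rw [← Fin.sum_univ_eq_sum_range F m]
    refine (Fintype.sum_bijective (fun i : Fin m => ((i : ℕ) : ZMod m)) ?_ _ _ fun i => ?_).symm
    · refine (Fintype.bijective_iff_injective_and_card _).mpr ⟨fun a b hab => ?_, by simp⟩
      have := congrArg ZMod.val hab
      simp only [ZMod.val_natCast_of_lt a.2, ZMod.val_natCast_of_lt b.2] at this
      exact Fin.ext this
    · rw [hF, ← nsmul_eq_mul, AddChar.map_nsmul_eq_pow, psi_half hψ hm hh]
  rw [hterm, sum_range_fold F (show m = 2 * h from hm) hh, Finset.mul_sum,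
    ← Fin.sum_univ_eq_sum_range (fun i => F (i + 1) + F (m - (i + 1))) (h - 1)]
  have h0 : F 0 = 0 := by simp [hF, coef_zero]
  have hh' : F h = coef ψ R (h : ZMod m) := by simp [hF, he.neg_one_pow]
  rw [h0, hh', zero_add]
  refine congrArg _ (Finset.sum_congr rfl fun i _ => ?_)
  have hi := i.2
  have hpow : (-1 : ℂ) ^ (m - ((i : ℕ) + 1)) = (-1) ^ ((i : ℕ) + 1) := by
    rw [neg_one_pow_eq_pow_mod_two, neg_one_pow_eq_pow_mod_two ((i : ℕ) + 1)]
    congr 1
    omega
  have hc : ((m - ((i : ℕ) + 1) : ℕ) : ZMod m) = -(((i : ℕ) + 1 : ℕ) : ZMod m) := by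
    rw [Nat.cast_sub (by omega), ZMod.natCast_self, zero_sub]
  simp only [hF]
  rw [hc, coef_neg hR, hpow]
  ring

/-- The value at the first of eight rotations. -/
theorem value_one_eight {ψ : AddChar (ZMod 8) ℂ} (hψ : ψ.IsPrimitive) (R : ZMod 8 → ℂ)
    (hR : ∀ l, R (-l) = R l) :
    R 1 = (ψ 1 + ψ (-1)) * (coef ψ R 1 - coef ψ R 3) - coef ψ R 4 := by
  have h4 : ψ 4 = -1 := psi_half hψ (h := 4) rfl (by norm_num)
  rw [value_eq_sum hψ R (by decide : (1 : ZMod 8) ≠ 0)]
  have hsum : ∀ F : ZMod 8 → ℂ, ∑ j, F j = F 0 + F 1 + F 2 + F 3 + F 4 + F 5 + F 6 + F 7 :=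
    fun F => Fin.sum_univ_eight F
  rw [hsum]
  simp only [mul_one]
  rw [show (5 : ZMod 8) = -3 by decide, show (6 : ZMod 8) = -2 by decide, show (7 : ZMod 8) = -1 by decide,
    coef_neg hR, coef_neg hR, coef_neg hR, coef_zero, h4]
  have e3 : ψ 3 = -ψ (-1) := by rw [show (3 : ZMod 8) = 4 + -1 by decide, AddChar.map_add_eq_mul, h4]; ring
  have e5 : ψ (-3) = -ψ 1 := by rw [show (-3 : ZMod 8) = 4 + 1 by decide, AddChar.map_add_eq_mul, h4]; ring
  have e2 : ψ (-2) = -ψ 2 := by rw [show (-2 : ZMod 8) = 4 + 2 by decide, AddChar.map_add_eq_mul, h4]; ring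
  rw [e3, e5, e2]
  ring

end CfsgLib.DihDefect
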