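import Cfsg.Agent.Lib.BlockArith.MajorSubsections
import Cfsg.Agent.Lib.Blocks.CyclicLocal

/-!
# Sections of a block through a nilpotent block of a central element

For `z` central in the defect group `D` whose block `b_z` of `C(z)` below a maximal pair `(D, e)` is
nilpotent, `exists_sections` gives class functions `ρ χ` on `D` with integral inner products such
that on the subsection of every `x` with `z ∈ ⟨x⟩` the part of `χ` is `ρ χ x` times a fixed function.
-/

set_option autoImplicit false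

noncomputable section

namespace CfsgLib.DihDefect

open Cfsg CfsgLib.Blocks CfsgLib.BlockArith CfsgLib.Char CfsgLib.BrauerPairs CfsgLib.NilBlock
open CfsgLib.Blocks.Cyclic
open scoped ComplexConjugate Classical

universe u

variable {G : Type u} [Group G] [Fintype G] {p : ℕ} [hp : Fact p.Prime] {M : Ideal AlgInt} [M.IsMaximal]
  {B : Set (IrrCharacter G)} {D : Subgroup G} {e : Set (IrrCharacter (Cen D))} {z : G}

/-- The block of `C(z)` below `(D, e)` has a maximal pair lifting `(D, e)`. -/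
theorem exists_local_maximal (hM : IsPModular p M) (hmax : IsMaximalBrauerPair p M B D e) (hz : z ∈ D)
    (hzc : D ≤ Cen (Subgroup.zpowers z)) {bz : Set (IrrCharacter (Cen (Subgroup.zpowers z)))}
    (hbz : SubpairLE p M (Subgroup.zpowers z) bz D e) :
    ∃ e' : Set (IrrCharacter (Cen (D.subgroupOf (Cen (Subgroup.zpowers z))))),
      IsMaximalBrauerPair p M bz (D.subgroupOf (Cen (Subgroup.zpowers z))) e' ∧
        Up (M := M) ⟨D.subgroupOf (Cen (Subgroup.zpowers z)), e'⟩ ⟨D, e⟩ := by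
  have hP := hmax.1.1
  have hzD : Subgroup.zpowers z ≤ D := Subgroup.zpowers_le.mpr hz
  have hbp : IsBrauerPair p M (Subgroup.zpowers z) bz := isBrauerPair_left (a := ⟨_, bz⟩) hbz hP
  have hn := normal_of_subpair hM hP (Q := Subgroup.zpowers z) (f := bz) hbz
    (hzc.trans (Subgroup.centralizer_le_normalizer _))
  obtain ⟨-, -, -, -, -, hocc⟩ := (normalSubpair_iff hM).mp hn
  have hmap : (D.subgroupOf (Cen (Subgroup.zpowers z))).map (Cen (Subgroup.zpowers z)).subtype = D := Subgroup.map_subgroupOf_eq_of_le hzc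
  have hCD : (Cen (D.subgroupOf (Cen (Subgroup.zpowers z)))).map (Cen (Subgroup.zpowers z)).subtype = Cen D := by
    rw [map_cen_subtype _ (by rw [hmap]; exact centralizer_anti hzD), hmap]
  obtain ⟨e', he', hu⟩ := exists_down (M := M) hp (b := ⟨D, e⟩) hCD hP.2
  refine ⟨e', ?_, hu⟩
  have hpair : IsBrauerPairOf p M bz (D.subgroupOf (Cen (Subgroup.zpowers z))) e' := (brauerPairOf_iff hM).mpr
    ⟨⟨hP.1.of_equiv (Subgroup.subgroupOfEquivOfLe hzc).symm, he'⟩, hbp.2, emb_injective (Cen (Subgroup.zpowers z)) (by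
      rw [map_mul, emb_br (A' := D) (fun w => cen_iff_map hCD w), ← hu.pid_eq, gidemTop_eq hbp.2,
        ← gidem_eq_emb hbp.2]
      exact hocc)⟩
  refine isMaximal_of_card hM hpair ?_
  rw [← card_defectGroup hM hbp.2 (pairs_defect_central hM hmax hbz hzc)]

/-- Chains in `C(z)` above `⟨z⟩` lift. -/
theorem subpair_up (hM : IsPModular p M) (hmax : IsMaximalBrauerPair p M B D e)
    (hzc : D ≤ Cen (Subgroup.zpowers z)) [Fintype (Cen (Subgroup.zpowers z))]
    {e' : Set (IrrCharacter (Cen (D.subgroupOf (Cen (Subgroup.zpowers z)))))}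
    (hu : Up (M := M) ⟨D.subgroupOf (Cen (Subgroup.zpowers z)), e'⟩ ⟨D, e⟩)
    {c : BrauerPairIdx (Cen (Subgroup.zpowers z))}
    (hc : Relation.ReflTransGen (NormalSubpairRel p M) c ⟨D.subgroupOf (Cen (Subgroup.zpowers z)), e'⟩)
    (hz : z ∈ c.1.map (Cen (Subgroup.zpowers z)).subtype) {b : BrauerPairIdx G}
    (hcb : Up (M := M) c b) (hb1 : c.1.map (Cen (Subgroup.zpowers z)).subtype = b.1)
    (hb : IsBrauerPair p M b.1 b.2) :
    Relation.ReflTransGen (NormalSubpairRel p M) b ⟨D, e⟩ := by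
  have hmap := Subgroup.map_subgroupOf_eq_of_le hzc
  induction hc using Relation.ReflTransGen.head_induction_on generalizing b with
  | refl =>
    rw [show b = ⟨D, e⟩ from pair_ext (M := M) hb.2 hmax.1.1.2 (by rw [← hb1]; exact hmap)
      (by rw [hcb.pid_eq, hu.pid_eq])]
  | @head c c' hcc' _ ih =>
    obtain ⟨-, hc'p, hle', hN', hfix', -⟩ := (normalSubpair_iff hM).mp hcc'
    have hz' : z ∈ c'.1.map (Cen (Subgroup.zpowers z)).subtype := Subgroup.map_mono hle' hz
    have hC : (Cen c'.1).map (Cen (Subgroup.zpowers z)).subtype =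
        Cen (c'.1.map (Cen (Subgroup.zpowers z)).subtype) :=
      map_cen_subtype _ (centralizer_anti (Subgroup.zpowers_le.mpr hz'))
    obtain ⟨b', hb', hu'⟩ := exists_up (M := M) hp hC hc'p.2
    have hb'p : IsBrauerPair p M (c'.1.map (Cen (Subgroup.zpowers z)).subtype) b' := ⟨hc'p.1.map _, hb'⟩
    refine Relation.ReflTransGen.head ?_ (ih hz' (b := ⟨_, b'⟩) hu' rfl hb'p)
    refine normal_up hM hcc' hcb hu' hb hb'p (by rw [← hb1]; exact Subgroup.map_mono hle') ?_ ?_
    · rw [← hb1]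
      exact (Subgroup.map_mono hN').trans (Subgroup.le_normalizer_map _)
    · rintro _ ⟨v, hv, rfl⟩
      rw [hcb.pid_eq, Subgroup.coe_subtype, ← emb_cjA, hfix' v hv]

theorem centScal_pow_eq_one {C : Type*} [Group C] [Fintype C] (ψ : IrrCharacter C) {w : C}
    (hw : w ∈ Subgroup.center C) {n : ℕ} (hn : w ^ n = 1) : centScal ψ w ^ n = 1 := by
  have h : ∀ k : ℕ, centScal ψ (w ^ k) = centScal ψ w ^ k := fun k => by
    induction k with
    | zero => rw [pow_zero, pow_zero, centScal_one]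
    | succ k ih => rw [pow_succ, pow_succ, centScal_mul ψ (pow_mem hw k), ih]
  rw [← h, hn, centScal_one]

/-- The coefficients of a nilpotent block on the characters of its defect group are integers. -/
theorem exists_int_coeff {P : Subgroup G} {eP : Set (IrrCharacter (Cen P))}
    {β : (x : P) → Set (IrrCharacter (Cen (Subgroup.zpowers (x : G))))} (S : Setup p M B P eP β)
    {χ₀ : IrrCharacter G} (h₀ : χ₀ ∈ B) (hh₀ : blockHeight p B (χ₀ : G → ℂ) = 0)
    {ψ : IrrCharacter G} (hψ : ψ ∈ B) (μ : IrrCharacter P) :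
    ∃ k : ℤ, classInner (fun x => cc p β x ψ χ₀) (μ : P → ℂ) = k := by
  set c : IrrCharacter P → IrrCharacter G → ℂ := fun μ η =>
    classInner (fun x => cc p β x η χ₀) (μ : P → ℂ) with hc
  show ∃ k : ℤ, c μ ψ = k
  by_cases h0 : c μ ψ = 0
  · exact ⟨0, by rw [h0, Int.cast_zero]⟩
  have horth : ∀ μ ν, ∑ η ∈ bset B, c μ η * conj (c ν η) = if μ = ν then 1 else 0 := S.coeff_orth h₀ hh₀
  have hint : ∀ μ, ∀ η ∈ bset B, IsIntegral ℤ (c μ η) := fun μ η hη =>
    S.isIntegral_coeff h₀ hh₀ (mem_bset.mp hη) μ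
  have huniq : ∀ μ, ∀ ψ₁ ∈ bset B, ∀ ψ₂ ∈ bset B, c μ ψ₁ ≠ 0 → c μ ψ₂ ≠ 0 → ψ₁ = ψ₂ := by
    intro μ ψ₁ h₁ ψ₂ h₂ n₁ n₂
    by_contra hne
    have hσ : ∀ (σ : ℂ ≃+* ℂ), σ ((c μ ψ₁ * conj (c μ ψ₁)) * (c μ ψ₂ * conj (c μ ψ₂))) =
        ((Complex.normSq (σ (c μ ψ₁)) * Complex.normSq (σ (c μ ψ₂)) : ℝ) : ℂ) := fun σ => by
      rw [map_mul, map_mul, map_mul, show σ (conj (c μ ψ₁)) = conj (σ (c μ ψ₁)) from S.coeff_galois σ ψ₁ μ,
        show σ (conj (c μ ψ₂)) = conj (σ (c μ ψ₂)) from S.coeff_galois σ ψ₂ μ, Complex.mul_conj,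
        Complex.mul_conj, Complex.ofReal_mul]
    obtain ⟨σ, h⟩ := exists_conjugate_ge_one
      (((hint μ ψ₁ h₁).mul (map_isIntegral_int (starRingEnd ℂ) (hint μ ψ₁ h₁))).mul
        ((hint μ ψ₂ h₂).mul (map_isIntegral_int (starRingEnd ℂ) (hint μ ψ₂ h₂))))
      (mul_ne_zero (mul_ne_zero n₁ ((map_ne_zero _).mpr n₁)) (mul_ne_zero n₂ ((map_ne_zero _).mpr n₂)))
      (fun σ => ⟨_, mul_nonneg (Complex.normSq_nonneg _) (Complex.normSq_nonneg _), hσ σ⟩)
    rw [hσ, Complex.ofReal_re] at h
    have hnorm : ∑ η ∈ bset B, Complex.normSq (σ (c μ η)) = 1 := by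
      apply Complex.ofReal_injective
      have h' := congrArg σ (horth μ μ)
      rw [if_pos rfl, map_one, map_sum] at h'
      rw [Complex.ofReal_sum, Complex.ofReal_one, ← h']
      refine Finset.sum_congr rfl fun η _ => ?_
      rw [map_mul, show σ (conj (c μ η)) = conj (σ (c μ η)) from S.coeff_galois σ η μ, Complex.mul_conj]
    have h2 := Finset.add_le_sum (f := fun η => Complex.normSq (σ (c μ η)))
      (fun η _ => Complex.normSq_nonneg _) h₁ h₂ hne
    rw [hnorm] at h2
    nlinarith [Complex.normSq_nonneg (σ (c μ ψ₁)), Complex.normSq_nonneg (σ (c μ ψ₂)),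
      sq_nonneg (Complex.normSq (σ (c μ ψ₁)) - Complex.normSq (σ (c μ ψ₂)))]
  have hψb : ψ ∈ bset B := mem_bset.mpr hψ
  have hother : ∀ ν, ν ≠ μ → c ν ψ = 0 := fun ν hne => by
    by_contra hν
    have h1 := horth μ ν
    rw [if_neg (Ne.symm hne), Finset.sum_eq_single ψ (fun η hη hn => by
        rw [show c μ η = 0 by by_contra h; exact hn (huniq μ η hη ψ hψb h h0), zero_mul])
      (fun hn => absurd hψb hn)] at h1
    exact mul_ne_zero h0 ((map_ne_zero _).mpr hν) h1
  obtain ⟨k, hk⟩ := ctr_one_int (p := p) (cen_zpowers _) S.hM (S.pairOf 1).1.2 (Subgroup.coe_one P) ψ χ₀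
  have h1 := congrFun (classFun_eq_sum (S.isClassFunction ψ χ₀)) (1 : P)
  simp only [Finset.sum_apply, Pi.smul_apply, smul_eq_mul] at h1
  rw [Finset.sum_eq_single μ (fun ν _ hν => by
      rw [show classInner (fun x => cc p β x ψ χ₀) (ν : P → ℂ) = 0 from hother ν hν, zero_mul]) (by simp),
    show cc p β 1 ψ χ₀ = (k : ℂ) from hk] at h1
  have hd0 : (charDegree (μ : P → ℂ) : ℂ) ≠ 0 := Nat.cast_ne_zero.mpr (charDegree_ne_zero μ)
  rw [CfsgLib.Blocks.charDegree_eq (isCharacter_of_isIrr μ.2), eq_comm] at h1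
  have hq : c μ ψ = (((k : ℚ) / (charDegree (μ : P → ℂ) : ℚ) : ℚ) : ℂ) := by
    push_cast
    rw [eq_div_iff hd0]
    exact h1
  obtain ⟨n, hn⟩ := (isIntegral_rat_iff _).mp (hq ▸ hint μ ψ hψb)
  exact ⟨n, by rw [hq, ← hn, Rat.cast_intCast]⟩

set_option maxHeartbeats 1600000 in
/-- **The sections.** -/
theorem exists_sections (hM : IsPModular p M) (hmax : IsMaximalBrauerPair p M B D e) (hz : z ∈ D)
    (hzc : D ≤ Cen (Subgroup.zpowers z)) {bz : Set (IrrCharacter (Cen (Subgroup.zpowers z)))}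
    (hbz : SubpairLE p M (Subgroup.zpowers z) bz D e) (hnil : IsNilpotentBlock p M bz) :
    ∃ ρ : IrrCharacter G → D → ℂ,
      (∀ χ (μ : IrrCharacter D), ∃ k : ℤ, classInner (ρ χ) (μ : D → ℂ) = k) ∧
      (∀ χ, IsClassFunction D (ρ χ)) ∧
      ∀ x : D, x ≠ 1 → z ∈ Subgroup.zpowers (x : G) →
        ∃ (b : Set (IrrCharacter (Cen (Subgroup.zpowers (x : G))))) (v : Cen (Subgroup.zpowers (x : G)) → ℂ),
          SubpairLE p M (Subgroup.zpowers (x : G)) b D e ∧
          p ^ blockDefect p b = Nat.card {w : D // w * x = x * w} ∧ blockRank p b = 1 ∧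
          ((p ^ blockDefect p b : ℕ) : ℂ) / (Nat.card (Cen (Subgroup.zpowers (x : G))) : ℂ) *
              regSum p v v = 1 ∧
          (∀ (χ : IrrCharacter G) (s : Cen (Subgroup.zpowers (x : G))), ¬ p ∣ orderOf s →
            secH (x : G) (Cen (Subgroup.zpowers (x : G))) b χ s = ρ χ x * v s) ∧
          ((x : G) = z → ∃ (ω : ℂ) (d₀ : ℕ), v 1 = ω * d₀ ∧ ω ^ orderOf z = 1 ∧ d₀ ≠ 0 ∧
            d₀.factorization p + blockDefect p B =
              (Nat.card (Cen (Subgroup.zpowers z))).factorization p) := by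
  obtain ⟨e', hmax', hu⟩ := exists_local_maximal hM hmax hz hzc hbz
  obtain ⟨β, S⟩ := exists_setup hM hmax' hnil fun H _ _ _ => blockRank_eq_one_of_nilpotent hM H
  obtain ⟨η₀, hη₀, hh₀⟩ := exists_height_zero hM hnil.1
  choose m hm using fun (χ : IrrCharacter G) (η : IrrCharacter (Cen (Subgroup.zpowers z))) =>
    classInner_char_nat (isCharacter_res (Cen (Subgroup.zpowers z)) (isCharacter_of_isIrr χ.2)) (isCharacter_of_isIrr η.2)
  set ε₀ : D.subgroupOf (Cen (Subgroup.zpowers z)) ≃* D := Subgroup.subgroupOfEquivOfLe hzc with hε₀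
  let ρ : IrrCharacter G → D → ℂ := fun χ x =>
    ∑ η : IrrCharacter (Cen (Subgroup.zpowers z)), if η ∈ bz then (m χ η : ℂ) * cc p β (ε₀.symm x) η η₀ else 0
  refine ⟨ρ, fun χ μ => ?_, fun χ g h => ?_, fun x hx1 hzx => ?_⟩
  · choose k hk using fun (η : {η : IrrCharacter (Cen (Subgroup.zpowers z)) // η ∈ bz}) =>
      exists_int_coeff S hη₀ hh₀ η.2 (tirr ε₀.symm μ)
    refine ⟨∑ η : IrrCharacter (Cen (Subgroup.zpowers z)), if hη : η ∈ bz then (m χ η : ℤ) * k ⟨η, hη⟩ else 0, ?_⟩
    have hin : ∀ η : IrrCharacter (Cen (Subgroup.zpowers z)), classInner (fun x : D => cc p β (ε₀.symm x) η η₀) (μ : D → ℂ) =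
        classInner (fun x => cc p β x η η₀) ((tirr ε₀.symm μ : IrrCharacter (D.subgroupOf (Cen (Subgroup.zpowers z)))) : _ → ℂ) := by
      intro η
      rw [classInner_def, classInner_def, Nat.card_congr ε₀.toEquiv]
      congr 1
      refine Fintype.sum_equiv ε₀.symm.toEquiv _ _ fun y => ?_
      simp [tirr]
    have hlin : classInner (ρ χ) (μ : D → ℂ) = ∑ η : IrrCharacter (Cen (Subgroup.zpowers z)),
        if η ∈ bz then (m χ η : ℂ) * classInner (fun x : D => cc p β (ε₀.symm x) η η₀) (μ : D → ℂ) else 0 := by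
      simp only [classInner_def, ρ, Finset.mul_sum, Finset.sum_mul]
      rw [Finset.sum_comm]
      refine Finset.sum_congr rfl fun η _ => ?_
      split_ifs
      · exact Finset.sum_congr rfl fun y _ => by ring
      · simp
    rw [hlin, Int.cast_sum]
    refine Finset.sum_congr rfl fun η _ => ?_
    split_ifs with hη
    · rw [hin η, hk ⟨η, hη⟩]; push_cast; rfl
    · simp
  · show ∑ η : IrrCharacter (Cen (Subgroup.zpowers z)), _ = ∑ η : IrrCharacter (Cen (Subgroup.zpowers z)), _
    refine Finset.sum_congr rfl fun η _ => ?_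
    rw [map_mul, map_mul, map_inv, S.cc_conjugate]
  · obtain ⟨y, hy⟩ : ∃ y : D.subgroupOf (Cen (Subgroup.zpowers z)), y = ε₀.symm x := ⟨_, rfl⟩
    have hyG : ((y : (Cen (Subgroup.zpowers z))) : G) = (x : G) := by rw [hy]; rfl
    have hy1 : y ≠ 1 := fun h => hx1 (by
      rw [hy] at h
      exact ε₀.symm.injective (h.trans (map_one ε₀.symm).symm))
    have hmapz : (Subgroup.zpowers (y : (Cen (Subgroup.zpowers z)))).map (Cen (Subgroup.zpowers z)).subtype = Subgroup.zpowers (x : G) := by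
      rw [MonoidHom.map_zpowers]; exact congrArg Subgroup.zpowers hyG
    have hHC : Cen (Subgroup.zpowers (x : G)) ≤ (Cen (Subgroup.zpowers z)) := centralizer_anti (Subgroup.zpowers_le.mpr hzx)
    have hK : (Cen (Subgroup.zpowers (y : (Cen (Subgroup.zpowers z))))).map (Cen (Subgroup.zpowers z)).subtype = Cen (Subgroup.zpowers (x : G)) := by
      rw [map_cen_subtype _ (by rw [hmapz]; exact hHC), hmapz]
    let ε : Cen (Subgroup.zpowers (y : (Cen (Subgroup.zpowers z)))) ≃* Cen (Subgroup.zpowers (x : G)) :=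
      ((Cen (Subgroup.zpowers (y : (Cen (Subgroup.zpowers z))))).equivMapOfInjective (Cen (Subgroup.zpowers z)).subtype (Cen (Subgroup.zpowers z)).subtype_injective).trans
        (MulEquiv.subgroupCongr hK)
    have hεc : ∀ k, ((ε k : Cen (Subgroup.zpowers (x : G))) : G) = ((k : (Cen (Subgroup.zpowers z))) : G) := fun k => rfl
    let _ : Fintype (Cen (Subgroup.zpowers (y : (Cen (Subgroup.zpowers z))))) := Fintype.ofFinite _
    let _ : Fintype (Cen (Subgroup.zpowers (x : G))) := Fintype.ofFinite _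
    have hb' := (S.pairOf y).1
    have hup : Up (M := M) (⟨Subgroup.zpowers (y : (Cen (Subgroup.zpowers z))), β y⟩ : BrauerPairIdx (Cen (Subgroup.zpowers z)))
        (⟨Subgroup.zpowers (x : G), tblock ε (β y)⟩ : BrauerPairIdx G) :=
      ⟨hK, gidem_of_coeff _ _ hK _ _ fun k hk => by rw [← blockCoeff_tblock ε (β y) k]; rfl⟩
    have hle : SubpairLE p M (Subgroup.zpowers (x : G)) (tblock ε (β y)) D e :=
      subpair_up hM hmax hzc hu (S.hβ y) (by rw [hmapz]; exact hzx) hup hmapz
        ⟨hmax.1.1.1.to_le (Subgroup.zpowers_le.mpr x.2), isPBlock_tblock ε hb'.2⟩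
    let v : Cen (Subgroup.zpowers (x : G)) → ℂ := fun s =>
      secH (y : (Cen (Subgroup.zpowers z))) (Cen (Subgroup.zpowers (y : (Cen (Subgroup.zpowers z))))) (β y) η₀ (ε.symm s)
    refine ⟨tblock ε (β y), v, hle, ?_, ?_, ?_, fun χ s hs => ?_, fun hxz => ?_⟩
    · rw [blockDefect_tblock', ← S.natCard_centralizer y]
      refine Nat.card_congr (ε₀.toEquiv.subtypeEquiv fun w => ?_)
      rw [hy]
      show w * ε₀.symm x = ε₀.symm x * w ↔ ε₀ w * x = x * ε₀ w
      rw [← ε₀.injective.eq_iff, map_mul, map_mul, MulEquiv.apply_symm_apply]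
    · rw [blockRank_tblock, S.hrank y hy1]
    · have h1 := S.self_eq_one hη₀ hh₀ y
      rw [cc, ctr] at h1
      rw [blockDefect_tblock', Nat.card_congr ε.symm.toEquiv]
      refine Eq.trans (congrArg _ ?_) h1
      rw [regSum_eq, regSum_eq]
      refine (Fintype.sum_equiv ε.toEquiv _ _ fun k => ?_).symm
      simp only [MulEquiv.toEquiv_eq_coe, EquivLike.coe_coe, MulEquiv.orderOf_eq, v, MulEquiv.symm_apply_apply]
    · obtain ⟨k, rfl⟩ := ε.surjective s
      rw [MulEquiv.orderOf_eq] at hs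
      have hfun : (fun c : Cen (Subgroup.zpowers (y : (Cen (Subgroup.zpowers z)))) =>
          (χ : G → ℂ) ((x : G) * ((ε c : Cen (Subgroup.zpowers (x : G))) : G))) =
          fun c : Cen (Subgroup.zpowers (y : (Cen (Subgroup.zpowers z)))) => ∑ η : IrrCharacter (Cen (Subgroup.zpowers z)), (m χ η : ℂ) * (η : (Cen (Subgroup.zpowers z)) → ℂ) ((y : (Cen (Subgroup.zpowers z))) * (c : (Cen (Subgroup.zpowers z)))) := by
        funext c
        have h := congrFun (classFun_eq_sum (isClassFunction_of_isCharacter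
          (isCharacter_res (Cen (Subgroup.zpowers z)) (isCharacter_of_isIrr χ.2)))) ((y : (Cen (Subgroup.zpowers z))) * (c : (Cen (Subgroup.zpowers z))))
        simp only [Finset.sum_apply, Pi.smul_apply, smul_eq_mul, hm, Subgroup.coe_mul, hyG] at h
        rw [hεc]
        exact h
      show blockPart (tblock ε (β y)) _ (ε k) = _
      rw [blockPart_tblock, hfun, blockPart_sum, Finset.sum_mul]
      refine Finset.sum_congr rfl fun η _ => ?_
      show (m χ η : ℂ) * secH (y : (Cen (Subgroup.zpowers z))) (Cen (Subgroup.zpowers (y : (Cen (Subgroup.zpowers z))))) (β y) η k = _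
      simp only [v, MulEquiv.symm_apply_apply, ← hy]
      split_ifs with hη
      · rw [S.secH_eq hη₀ hh₀ hy1 η hs]; ring
      · rw [secH_eq_zero (cen_zpowers _) hM (exists_pow_of_mem S.isPGroup y.2) (S.induced y) hη hs,
          mul_zero, zero_mul]
    · -- the value at one of the section of `z`
      have hyz : (y : (Cen (Subgroup.zpowers z))) ∈ Subgroup.center (Cen (Subgroup.zpowers z)) := Subgroup.mem_center_iff.mpr fun c => Subtype.ext (by
        rw [Subgroup.coe_mul, Subgroup.coe_mul, hyG, hxz]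
        exact (Subgroup.mem_centralizer_iff.mp c.2 _ (Subgroup.mem_zpowers z)).symm)
      have hu' := exists_pow_of_mem S.isPGroup y.2
      have := Fintype.ofFinite {b : Set (IrrCharacter (Cen (Subgroup.zpowers (y : (Cen (Subgroup.zpowers z)))))) // IsPBlock M b}
      have hsum := sum_inducingH (cen_zpowers _) hM hu' hnil.1 η₀ hη₀
        (y := (1 : Cen (Subgroup.zpowers (y : (Cen (Subgroup.zpowers z)))))) (by rw [orderOf_one]; exact hp.out.not_dvd_one)
      rw [Finset.sum_eq_single ⟨β y, hb'.2⟩, if_pos (S.induced y)] at hsum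
      · refine ⟨centScal η₀ (y : (Cen (Subgroup.zpowers z))), charDegree (η₀ : (Cen (Subgroup.zpowers z)) → ℂ), ?_, ?_, charDegree_ne_zero η₀, ?_⟩
        · show secH (y : (Cen (Subgroup.zpowers z))) (Cen (Subgroup.zpowers (y : (Cen (Subgroup.zpowers z))))) (β y) η₀ (ε.symm 1) = _
          rw [map_one, hsum, OneMemClass.coe_one, char_central_mul η₀ hyz,
            CfsgLib.Blocks.charDegree_eq (isCharacter_of_isIrr η₀.2)]
        · refine centScal_pow_eq_one η₀ hyz (Subtype.ext ?_)
          rw [SubmonoidClass.coe_pow, hyG, hxz, pow_orderOf_eq_one]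
          rfl
        · have hdeg := degree_height hM hnil.1 hη₀
          rw [hh₀, add_zero] at hdeg
          have hdd : blockDefect p bz = blockDefect p B := by
            refine Nat.pow_right_injective hp.out.two_le ?_
            show p ^ blockDefect p bz = p ^ blockDefect p B
            rw [← card_defectGroup hM hnil.1 (isDefectGroup_of_maximal hM hmax'), card_subgroupOf' hzc,
              ← card_defectGroup hM hmax.1.2.1 (isDefectGroup_of_maximal hM hmax)]
          rw [← hdd]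
          exact hdeg
      · intro b _ hne
        rw [if_neg]
        intro hind
        apply hne
        have hzp := NilBlock.isPGroup_zpowers hu'
        have hbp := (brauerPairOf_iff_induced hM hzp b.2 hnil.1).mpr hind
        obtain ⟨g, hg⟩ := exists_conj_le_maximal hM (a := ⟨Subgroup.zpowers (y : (Cen (Subgroup.zpowers z))), b.1⟩)
          (b := ⟨D.subgroupOf (Cen (Subgroup.zpowers z)), e'⟩) hmax' hbp
        rw [cjPair_eq_self_of_mem_stab hbp.1 (cen_le_stab _
          (mem_cen_zpowers.mpr (Subgroup.mem_center_iff.mp hyz g)))] at hg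
        have he := pair_eq_of_le hM hmax'.1.1 hg (S.hβ y) rfl
        exact Subtype.ext (eq_of_heq (Sigma.mk.injEq .. ▸ he).2)
      · exact fun hn => absurd (Finset.mem_univ _) hn

end CfsgLib.DihDefect
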