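import Cfsg.Agent.Lib.BlockArith.DihDefect.Cross
import Cfsg.Agent.Lib.BlockArith.DihDefect.Dihedral
import Cfsg.Agent.Lib.BlockArith.DihDefect.Transport
import Cfsg.Agent.Lib.BlockArith.DihDefect.Rot

/-!
# The sections of the rotations of a dihedral defect group

* `isNilpotentBlock_central`: the block of the centraliser of the central involution is nilpotent;
* `rot_fusion`: rotations with conjugate subpairs are equal or inverse;
* `RotRows`, `exists_rotRows`: the values on the sections of the rotations and their relations.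
-/

set_option autoImplicit false

noncomputable section

open scoped ComplexConjugate Classical

namespace CfsgLib.DihDefect

open Cfsg CfsgLib.Blocks CfsgLib.BlockArith CfsgLib.Char CfsgLib.BrauerPairs CfsgLib.NilBlock
open CfsgLib.Blocks.Cyclic CfsgLib.Invol.DihedralSylow DihedralGroup

universe u

variable {G : Type u} [Group G] [Fintype G] {M : Ideal AlgInt} [M.IsMaximal] [hp : Fact (Nat.Prime 2)]
  {B : Set (IrrCharacter G)} {D : Subgroup G} {e : Set (IrrCharacter (Cen D))} {m h : ℕ}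
  {ι : DihedralGroup m →* G}

/-- The isomorphism onto the defect group. -/
def DData.equiv (d : DData D ι h) : DihedralGroup m ≃* D :=
  (MonoidHom.ofInjective d.inj).trans (MulEquiv.subgroupCongr d.range)

omit [Fintype G] hp in
theorem DData.coe_equiv (d : DData D ι h) (x : DihedralGroup m) : ((d.equiv x : D) : G) = ι x := rfl

omit [Fintype G] hp in
theorem DData.card_commuting_equiv (d : DData D ι h) {l : ZMod m} (hl : l ≠ 0) :
    Nat.card {w : D // w * d.equiv (r l) = d.equiv (r l) * w} = if l = (h : ZMod m) then 2 * m else m := by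
  rw [← d.card_commuting hl]
  refine Nat.card_congr (d.equiv.toEquiv.subtypeEquiv fun w => ?_).symm
  show w * r l = r l * w ↔ d.equiv w * d.equiv (r l) = d.equiv (r l) * d.equiv w
  rw [← map_mul, ← map_mul, d.equiv.injective.eq_iff]

omit [Fintype G] hp in
theorem DData.rot_ne_one (d : DData D ι h) {l : ZMod m} (hl : l ≠ 0) : ι (r l) ≠ 1 := fun he => hl (by
  rw [← map_one ι, d.inj.eq_iff, one_def, r.injEq] at he
  exact he)

/-- **The block of the centraliser of the central involution is nilpotent.** -/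
theorem isNilpotentBlock_central (hM : IsPModular 2 M) (hmax : IsMaximalBrauerPair 2 M B D e)
    (d : DData D ι h) {bz : Set (IrrCharacter (Cen (Subgroup.zpowers (ι (r (h : ZMod m))))))}
    (hbz : SubpairLE 2 M (Subgroup.zpowers (ι (r (h : ZMod m)))) bz D e) : IsNilpotentBlock 2 M bz := by
  have hbp : IsBrauerPair 2 M (Subgroup.zpowers (ι (r (h : ZMod m)))) bz :=
    isBrauerPair_left (a := ⟨_, bz⟩) hbz hmax.1.1
  have hzD : (ι (r (h : ZMod m))) ∈ D := d.mem _
  obtain ⟨e', hmax', -⟩ := exists_local_maximal hM hmax hzD d.le_cen hbz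
  refine ⟨hbp.2, fun Q f hQ y hyN _ hyr => ?_⟩
  obtain ⟨g, hg⟩ := exists_conj_le_maximal hM (a := ⟨Q, f⟩)
    (b := ⟨D.subgroupOf (Cen (Subgroup.zpowers (ι (r (h : ZMod m))))), e'⟩) hmax' hQ
  have hle : Q.map (MulAut.conj g).toMonoidHom ≤ D.subgroupOf (Cen (Subgroup.zpowers (ι (r (h : ZMod m))))) := subgroup_le hg
  set Q' := (Q.map (MulAut.conj g).toMonoidHom).map (Cen (Subgroup.zpowers (ι (r (h : ZMod m))))).subtype with hQ'
  have hQ'D : Q' ≤ D := by
    rintro _ ⟨x, hx, rfl⟩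
    exact hle hx
  have hy' : g * y * g⁻¹ ∈ Subgroup.normalizer ((Q.map (MulAut.conj g).toMonoidHom : Subgroup (Cen (Subgroup.zpowers (ι (r (h : ZMod m)))))) : Set (Cen (Subgroup.zpowers (ι (r (h : ZMod m)))))) := by
    rw [Subgroup.mem_normalizer_iff_map_conj_eq]
    show (Q.map (MulAut.conj g).toMonoidHom).map (MulAut.conj (g * y * g⁻¹)).toMonoidHom = _
    rw [map_conj_map_conj, inv_mul_cancel_right, ← map_conj_map_conj, map_conj_eq_self hyN]
  have hcent : ((g * y * g⁻¹ : (Cen (Subgroup.zpowers (ι (r (h : ZMod m)))))) : G) ∈ Subgroup.centralizer (Q' : Set G) := by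
    refine d.odd_centralizes hQ'D (Subgroup.le_normalizer_map _ ⟨_, hy', rfl⟩) ?_ ?_
    · rw [Subgroup.orderOf_coe, ← (SemiconjBy.conj_mk g y).orderOf_eq]
      exact hyr
    · exact (Subgroup.mem_centralizer_iff.mp (g * y * g⁻¹ : (Cen (Subgroup.zpowers (ι (r (h : ZMod m)))))).2 _ (Subgroup.mem_zpowers (ι (r (h : ZMod m))))).symm
  have h3 : g * y * g⁻¹ ∈ Cen (Q.map (MulAut.conj g).toMonoidHom) :=
    Subgroup.mem_centralizer_iff.mpr fun x hx => Subtype.ext
      (Subgroup.mem_centralizer_iff.mp hcent _ ⟨x, hx, rfl⟩)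
  have h4 := mem_centralizer_map_conj.mp h3
  simpa [mul_assoc] using h4

/-- **Rotations whose subpairs are conjugate are equal or inverse.** -/
theorem rot_fusion (hM : IsPModular 2 M) (hmax : IsMaximalBrauerPair 2 M B D e) (d : DData D ι h)
    {l l' : ZMod m} {b : Set (IrrCharacter (Cen (Subgroup.zpowers (ι (r l)))))}
    (hb : SubpairLE 2 M (Subgroup.zpowers (ι (r l))) b D e)
    {b' : Set (IrrCharacter (Cen (Subgroup.zpowers (ι (r l')))))}
    (hb' : SubpairLE 2 M (Subgroup.zpowers (ι (r l'))) b' D e) {g : G}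
    (hg : g * ι (r l') * g⁻¹ = ι (r l))
    (hgb : cjPair g (⟨Subgroup.zpowers (ι (r l')), b'⟩ : BrauerPairIdx G) = ⟨Subgroup.zpowers (ι (r l)), b⟩) :
    l' = l ∨ l' = -l := by
  have hP := hmax.1.1
  set a : BrauerPairIdx G := ⟨Subgroup.zpowers (ι (r l)), b⟩ with ha
  have hQ : Subgroup.zpowers (ι (r l')) = Subgroup.zpowers (ι (r l)) :=
    d.zpowers_eq (by rw [← hg]; exact (SemiconjBy.conj_mk g (ι (r l'))).orderOf_eq)
  have heq : (⟨Subgroup.zpowers (ι (r l')), b'⟩ : BrauerPairIdx G) = a :=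
    pair_eq_of_le hM hP (a := ⟨_, b'⟩) hb' hb hQ
  rw [heq] at hgb
  have hgs : g ∈ stab M a.1 a.2 := by
    refine ⟨Subgroup.mem_normalizer_iff_map_conj_eq.mpr (congrArg Sigma.fst hgb), ?_⟩
    show cjA g (pid M a) = pid M a
    rw [← pid_cjPair, hgb]
  have hDN : D ≤ Subgroup.normalizer ((Subgroup.zpowers (ι (r l)) : Subgroup G) : Set G) := by
    intro y hy
    obtain ⟨w, rfl⟩ := d.surj hy
    rw [Subgroup.mem_normalizer_iff_map_conj_eq]
    have hcw : ι w * ι (r l) * (ι w)⁻¹ = ι (r l) ∨ ι w * ι (r l) * (ι w)⁻¹ = (ι (r l))⁻¹ := by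
      rcases w with i | i
      · left; rw [← map_inv, ← map_mul, ← map_mul, inv_r, r_mul_r, r_mul_r]; congr 2; ring
      · right; rw [← map_inv, ← map_mul, ← map_mul, ← map_inv, inv_sr, sr_mul_r, sr_mul_sr, inv_r]; congr 2; ring
    show (Subgroup.zpowers (ι (r l))).map (MulAut.conj (ι w)).toMonoidHom = Subgroup.zpowers (ι (r l))
    rw [map_conj_zpowers]
    rcases hcw with e | e <;> rw [e]
    exact Subgroup.zpowers_inv
  have hfn : (blockFusion hM hmax).IsFullyNormalized (Subgroup.zpowers (ι (r l))) :=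
    ⟨Subgroup.zpowers_le.mpr (d.mem _), fun Q' _ => by
      show Nat.card (D ⊓ _ : Subgroup G) ≤ Nat.card (D ⊓ _ : Subgroup G); rw [inf_eq_left.mpr hDN]; exact Subgroup.card_le_of_le inf_le_left⟩
  have hcyc : ∀ y ∈ stab M (Subgroup.zpowers (ι (r l))) b, IsPRegular 2 y → y ∈ Cen (Subgroup.zpowers (ι (r l))) :=
    fun y hy hr => odd_centralizes_cyclic
      (d.isPGroup.to_le (Subgroup.zpowers_le.mpr (d.mem _))) hy.1 hr
  obtain ⟨v, hv, c, hc, hvc⟩ := exists_mul_of_mem_sup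
    (H := D ⊓ Subgroup.normalizer ((Subgroup.zpowers (ι (r l)) : Subgroup G) : Set G))
    (K := Cen (Subgroup.zpowers (ι (r l))))
    (fun y hy => mem_normalizer_centralizer hy.2)
    (sup_cen_eq_stab hM (blockFusion_spec hM hmax) hb hfn hcyc hgs)
  have hcx : c * ι (r l') = ι (r l') * c :=
    (Subgroup.mem_centralizer_iff.mp hc _ (hQ ▸ Subgroup.mem_zpowers (ι (r l')))).symm
  obtain ⟨w, rfl⟩ := d.surj hv.1
  rw [hvc, show ι w * c * ι (r l') * (ι w * c)⁻¹ = ι w * (c * ι (r l')) * c⁻¹ * (ι w)⁻¹ by group, hcx,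
    show ι w * (ι (r l') * c) * c⁻¹ * (ι w)⁻¹ = ι w * ι (r l') * (ι w)⁻¹ by group, ← map_inv, ← map_mul,
    ← map_mul, d.inj.eq_iff] at hg
  rcases w with i | i
  · rw [inv_r, r_mul_r, r_mul_r, r.injEq] at hg
    left; linear_combination hg
  · rw [inv_sr, sr_mul_r, sr_mul_sr, r.injEq] at hg
    right; linear_combination -hg

/-- The values on the sections of the rotations. -/
structure RotRows (M : Ideal AlgInt) (B : Set (IrrCharacter G)) (D : Subgroup G)
    (e : Set (IrrCharacter (Cen D))) (ι : DihedralGroup m →* G) (h : ℕ)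
    (R : IrrCharacter G → ZMod m → ℂ) : Prop where
  neg : ∀ χ l, R χ (-l) = R χ l
  real : ∀ χ l, conj (R χ l) = R χ l
  int : ∀ [NeZero m] (ψ : AddChar (ZMod m) ℂ) χ j, ∃ u : ℤ, coef ψ (R χ) j = u
  zero : ∀ l, l ≠ 0 → ∀ χ, χ ∉ B → R χ l = 0
  orth : ∀ l l' : ZMod m, l ≠ 0 → l' ≠ 0 → ∑ χ ∈ bset B, R χ l * conj (R χ l') =
    (m : ℂ) * ((if l' = l then 1 else 0) + if l' = -l then 1 else 0)
  reg : ∀ l, l ≠ 0 → ∀ y : G, ¬ 2 ∣ orderOf y → ∑ χ ∈ bset B, (χ : G → ℂ) y * R χ l = 0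
  sec : ∀ l, l ≠ 0 → ∃ (b : Set (IrrCharacter (Cen (Subgroup.zpowers (ι (r l))))))
      (v : Cen (Subgroup.zpowers (ι (r l))) → ℂ),
    SubpairLE 2 M (Subgroup.zpowers (ι (r l))) b D e ∧
      IsInducedBlock M (Cen (Subgroup.zpowers (ι (r l)))) b B ∧
      2 ^ blockDefect 2 b = (if l = (h : ZMod m) then 2 * m else m) ∧
      ((2 ^ blockDefect 2 b : ℕ) : ℂ) / (Nat.card (Cen (Subgroup.zpowers (ι (r l)))) : ℂ) * regSum 2 v v = 1 ∧
      (∀ (χ : IrrCharacter G) (s : Cen (Subgroup.zpowers (ι (r l)))), ¬ 2 ∣ orderOf s →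
        secH (ι (r l)) (Cen (Subgroup.zpowers (ι (r l)))) b χ s = R χ l * v s) ∧
      (l = (h : ZMod m) → ∃ (ω : ℂ) (d₀ : ℕ), v 1 = ω * d₀ ∧ ω ^ 2 = 1 ∧ d₀ ≠ 0 ∧
        d₀.factorization 2 + blockDefect 2 B = (Nat.card (Cen (Subgroup.zpowers (ι (r l))))).factorization 2)

omit hp in
theorem exists_ne_zero_of_norm {H : Type*} [Group H] [Fintype H] {v : H → ℂ} {a : ℂ}
    (hv : a * regSum 2 v v = 1) : ∃ s : H, ¬ 2 ∣ orderOf s ∧ v s ≠ 0 := by
  by_contra! h0
  rw [regSum_eq, Finset.sum_eq_zero fun s _ => ?_, mul_zero] at hv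
  · exact zero_ne_one hv
  · split_ifs with hs
    · rfl
    · rw [h0 s hs, zero_mul]

set_option maxHeartbeats 1000000 in
theorem exists_rotRows (hM : IsPModular 2 M) (hmax : IsMaximalBrauerPair 2 M B D e) (d : DData D ι h) :
    ∃ R : IrrCharacter G → ZMod m → ℂ, RotRows M B D e ι h R := by
  have := d.neZero
  have hP := hmax.1.1
  have hB := hmax.1.2.1
  set z := ι (r (h : ZMod m)) with hz
  obtain ⟨bz, hbz, -⟩ := existsUnique_subpair hM (Subgroup.zpowers_le.mpr (d.mem (r (h : ZMod m)))) hP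
  obtain ⟨ρ, hint, hcl, hsec⟩ :=
    exists_sections hM hmax (d.mem _) d.le_cen hbz (isNilpotentBlock_central hM hmax d hbz)
  set R : IrrCharacter G → ZMod m → ℂ := fun χ l => ρ χ (d.equiv (r l)) with hR
  have hne1 : ∀ l : ZMod m, l ≠ 0 → d.equiv (r l) ≠ 1 := fun l hl he => d.rot_ne_one hl (by
    rw [← d.coe_equiv, he]; rfl)
  have hsec' : ∀ l : ZMod m, l ≠ 0 → ∃ (b : Set (IrrCharacter (Cen (Subgroup.zpowers (ι (r l))))))
      (v : Cen (Subgroup.zpowers (ι (r l))) → ℂ),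
      SubpairLE 2 M (Subgroup.zpowers (ι (r l))) b D e ∧
        2 ^ blockDefect 2 b = (if l = (h : ZMod m) then 2 * m else m) ∧
        ((2 ^ blockDefect 2 b : ℕ) : ℂ) / (Nat.card (Cen (Subgroup.zpowers (ι (r l)))) : ℂ) * regSum 2 v v = 1 ∧
        (∀ (χ : IrrCharacter G) (s : Cen (Subgroup.zpowers (ι (r l)))), ¬ 2 ∣ orderOf s →
          secH (ι (r l)) (Cen (Subgroup.zpowers (ι (r l)))) b χ s = R χ l * v s) ∧
        (l = (h : ZMod m) → ∃ (ω : ℂ) (d₀ : ℕ), v 1 = ω * d₀ ∧ ω ^ 2 = 1 ∧ d₀ ≠ 0 ∧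
          d₀.factorization 2 + blockDefect 2 B =
            (Nat.card (Cen (Subgroup.zpowers (ι (r l))))).factorization 2) := by
    intro l hl
    obtain ⟨b, v, h1, h2, -, h4, h5, h6⟩ := hsec (d.equiv (r l)) (hne1 l hl) (d.zz_mem_zpowers hl)
    refine ⟨b, v, h1, h2.trans (d.card_commuting_equiv hl), h4, h5, fun hlh => ?_⟩
    subst hlh
    obtain ⟨ω, d₀, e1, e2, e3, e4⟩ := h6 rfl
    rw [d.orderOf_zz] at e2
    exact ⟨ω, d₀, e1, e2, e3, e4⟩
  choose b v hle hdef hnorm hval hone using hsec'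
  have hpow : ∀ l : ZMod m, ∃ k : ℕ, orderOf (ι (r l)) = 2 ^ k := fun l => exists_pow_of_mem hP.1 (d.mem _)
  have hof : ∀ l (hl : l ≠ 0), IsBrauerPairOf 2 M B (Subgroup.zpowers (ι (r l))) (b l hl) := fun l hl =>
    (brauerPairOf_iff_of_subpair hM (a := ⟨_, b l hl⟩) (b := ⟨D, e⟩) (hle l hl)).mp hmax.1
  have hind : ∀ l (hl : l ≠ 0), IsInducedBlock M (Cen (Subgroup.zpowers (ι (r l)))) (b l hl) B := fun l hl =>
    (brauerPairOf_iff_induced hM (NilBlock.isPGroup_zpowers (hpow l)) (hof l hl).1.2 hB).mp (hof l hl)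
  have hreal : ∀ χ l, conj (R χ l) = R χ l := fun χ l =>
    genchar_rot_conj (hcl χ) (hint χ) d.equiv l
  have hzero : ∀ l, l ≠ 0 → ∀ χ, χ ∉ B → R χ l = 0 := fun l hl χ hχ => by
    obtain ⟨s, hs, hvs⟩ := exists_ne_zero_of_norm (hnorm l hl)
    have h0 := secH_eq_zero (cen_zpowers (ι (r l))) hM (hpow l) (hind l hl) hχ hs
    rw [hval l hl χ s hs] at h0
    exact (mul_eq_zero.mp h0).resolve_right hvs
  have hctr : ∀ l (hl : l ≠ 0) χ η, ctr 2 (ι (r l)) (Cen (Subgroup.zpowers (ι (r l)))) (b l hl) χ η =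
      R χ l * R η l := fun l hl χ η => by
    rw [ctr, ← mul_one (R χ l * R η l), ← hnorm l hl, regSum_eq, regSum_eq]
    simp only [Finset.mul_sum]
    refine Finset.sum_congr rfl fun s _ => ?_
    split_ifs with hs
    · ring
    · rw [hval l hl χ s hs, hval l hl η s hs, map_mul, hreal]; ring
  have hneg : ∀ χ l, R χ (-l) = R χ l := fun χ l => classFun_rot_neg (hcl χ) d.equiv l
  refine ⟨R, hneg, hreal, ?_, hzero, ?_, ?_, fun l hl =>
    ⟨b l hl, v l hl, hle l hl, hind l hl, hdef l hl, hnorm l hl, hval l hl, hone l hl⟩⟩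
  · exact fun ψ χ j => exists_int_coef (hcl χ) (hint χ) d.equiv j
  · intro l l' hl hl'
    by_cases hc : l' = l ∨ l' = -l
    · obtain ⟨χ₀, hχ₀, hh₀⟩ := exists_height_zero (p := 2) hM hB
      have h1 := ctr_sum_mul (cen_zpowers (ι (r l))) hM (hpow l) (hind l hl) χ₀ χ₀
      have h0 := ctr_ne_zero (cen_zpowers (ι (r l))) hM (hpow l) (hind l hl) hχ₀ hh₀ hχ₀ hh₀
      rw [hctr] at h1 h0
      have h2 : ∑ χ ∈ bset B, R χ l * conj (R χ l') = ((2 ^ blockDefect 2 (b l hl) : ℕ) : ℂ) := by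
        refine mul_right_cancel₀ h0 (Eq.trans ?_ h1)
        rw [Finset.sum_mul, show bset B = Finset.univ.filter (· ∈ B) by ext χ; simp]
        refine Finset.sum_congr rfl fun χ _ => ?_
        rw [hctr, hctr, hreal]
        rcases hc with rfl | rfl
        · ring
        · rw [hneg]; ring
      rw [h2, hdef l hl]
      by_cases hlh : l = (h : ZMod m)
      · have hn : -l = l := by rw [hlh, eq_comm, ← add_eq_zero_iff_eq_neg, ← Nat.cast_add, show h + h = m by have := d.hm; omega, ZMod.natCast_self]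
        rw [hn] at hc ⊢
        rw [if_pos hlh, if_pos (hc.elim id id)]
        push_cast; ring
      · have hn : -l ≠ l := fun he => by
          rcases two_cancel d.hm d.hpos (show 2 * l = 0 by linear_combination -he) with e' | e'
          · exact hl e'
          · exact hlh e'
        rw [if_neg hlh]
        rcases hc with rfl | rfl
        · rw [if_pos rfl, if_neg hn.symm]; ring
        · rw [if_neg hn, if_pos rfl]; ring
    · rw [not_or] at hc
      rw [if_neg hc.1, if_neg hc.2, add_zero, mul_zero]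
      obtain ⟨s, hs, hvs⟩ := exists_ne_zero_of_norm (hnorm l hl)
      obtain ⟨t, ht, hvt⟩ := exists_ne_zero_of_norm (hnorm l' hl')
      have h1 := sum_secH_cross hM (hpow l) (hpow l') (hind l hl).1 (hind l' hl').1
        (fun g hg hgb => (rot_fusion hM hmax d (hle l hl) (hle l' hl') hg hgb).elim hc.1 hc.2) hs ht
      rw [← Finset.sum_subset (Finset.subset_univ (bset B)) fun χ _ hχ => by
        rw [hval l hl χ s hs, hzero l hl χ (fun hb => hχ (mem_bset.mpr hb))]; ring] at h1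
      refine (mul_eq_zero.mp (Eq.trans ?_ h1)).resolve_right
        (mul_ne_zero hvs ((map_ne_zero (starRingEnd ℂ)).mpr hvt))
      rw [Finset.sum_mul]
      refine Finset.sum_congr rfl fun χ _ => ?_
      rw [hval l hl χ s hs, hval l' hl' χ t ht, map_mul]; ring
  · intro l hl y hy
    obtain ⟨s, hs, hvs⟩ := exists_ne_zero_of_norm (hnorm l hl)
    have h1 := sum_char_mul_secH hM (hpow l) (hind l hl).1 (u := 1) (isPPart_one_iff.mpr hy)
      (fun hc => d.rot_ne_one hl (isConj_one_left.mp hc.symm)) hs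
    rw [← Finset.sum_subset (Finset.subset_univ (bset B)) fun χ _ hχ => by
      rw [hval l hl χ s hs, hzero l hl χ (fun hb => hχ (mem_bset.mpr hb))]; simp] at h1
    refine (mul_eq_zero.mp (Eq.trans ?_ h1)).resolve_right ((map_ne_zero (starRingEnd ℂ)).mpr hvs)
    rw [Finset.sum_mul]
    refine Finset.sum_congr rfl fun χ _ => ?_
    rw [hval l hl χ s hs, map_mul, hreal]; ring

end CfsgLib.DihDefect
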