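import Cfsg.Agent.Lib.BlockArith.DihDefect.Local
import Cfsg.Agent.Lib.BrauerPairs.Correspondence

/-!
# The centraliser of the rotations of order four in a dihedral defect group of order sixteen

* `pair_unique_four`, `br_gidemTop_four`: it has one block of `B`;
* `involution_four`: characters of that block vanish at involutions other than the central one.
-/

set_option autoImplicit false

noncomputable section

open scoped ComplexConjugate Classical

namespace CfsgLib.DihDefect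

open Cfsg CfsgLib.Blocks CfsgLib.BlockArith CfsgLib.Char CfsgLib.BrauerPairs CfsgLib.NilBlock
open DihedralGroup

universe u

variable {G : Type u} [Group G] [Fintype G] {M : Ideal AlgInt} [M.IsMaximal] [hp : Fact (Nat.Prime 2)]
  {B : Set (IrrCharacter G)} {D : Subgroup G} {e : Set (IrrCharacter (Cen D))} {ι : DihedralGroup 8 →* G}
  {b : Set (IrrCharacter (Cen (Subgroup.zpowers (ι (r 2)))))}

omit [Fintype G] hp in
theorem orderOf_rot_two (d : DData D ι 4) : orderOf (ι (r 2)) = 4 := by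
  rw [orderOf_injective ι d.inj, DihedralGroup.orderOf_r]
  rfl

omit [Fintype G] hp in
theorem eq_zpowers_of_order_four (d : DData D ι 4) {y : G} (hy : y ∈ D) (ho : orderOf y = 4) :
    Subgroup.zpowers y = Subgroup.zpowers (ι (r 2)) := by
  have h2 : y * y ≠ 1 := fun e => by
    have := orderOf_dvd_of_pow_eq_one (show y ^ 2 = 1 by rw [pow_two]; exact e)
    rw [ho] at this
    norm_num at this
  obtain ⟨i, rfl⟩ := mem_rot.mp (d.rot_of_sq_ne hy h2)
  exact d.zpowers_eq (by rw [ho, orderOf_rot_two d])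

omit [Fintype G] hp in
theorem map_conj_eq_four (d : DData D ι 4) {g : G}
    (hle : (Subgroup.zpowers (ι (r 2))).map (MulAut.conj g).toMonoidHom ≤ D) :
    (Subgroup.zpowers (ι (r 2))).map (MulAut.conj g).toMonoidHom = Subgroup.zpowers (ι (r 2)) := by
  rw [map_conj_zpowers] at hle ⊢
  refine eq_zpowers_of_order_four d (hle (Subgroup.mem_zpowers _)) ?_
  rw [← (SemiconjBy.conj_mk g (ι (r 2))).orderOf_eq, orderOf_rot_two d]

/-- One block of `B` at the rotations of order four. -/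
theorem pair_unique_four (hM : IsPModular 2 M) (hmax : IsMaximalBrauerPair 2 M B D e) (d : DData D ι 4)
    (hb : SubpairLE 2 M (Subgroup.zpowers (ι (r 2))) b D e)
    {f : Set (IrrCharacter (Cen (Subgroup.zpowers (ι (r 2)))))}
    (hf : IsBrauerPairOf 2 M B (Subgroup.zpowers (ι (r 2))) f) : f = b := by
  have hP := hmax.1.1
  set a : BrauerPairIdx G := ⟨Subgroup.zpowers (ι (r 2)), f⟩ with ha
  set a₂ : BrauerPairIdx G := ⟨Subgroup.zpowers (ι (r 2)), b⟩ with ha₂
  obtain ⟨g, hg⟩ := exists_conj_le_maximal hM (a := a) (b := ⟨D, e⟩) hmax hf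
  have hQ := map_conj_eq_four d (subgroup_le hg : (cjPair g a).1 ≤ D)
  have hga : cjPair g a = a₂ := pair_eq_of_le hM hP hg hb hQ
  have key : ∀ c : G, c * ι (r 2) * c⁻¹ = ι (r 2) → cjPair c a = a₂ → f = b := by
    intro c hc hca
    rw [cjPair_eq_self_of_mem_stab hf.1 (cen_le_stab _ (mem_cen_zpowers.mpr (mul_inv_eq_iff_eq_mul.mp hc)))] at hca
    exact eq_of_heq (Sigma.mk.injEq .. ▸ hca).2
  have ho4 : orderOf (g * ι (r 2) * g⁻¹) = 4 := by
    rw [← (SemiconjBy.conj_mk g (ι (r 2))).orderOf_eq, orderOf_rot_two d]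
  have hmem : g * ι (r 2) * g⁻¹ ∈ D := by
    have : g * ι (r 2) * g⁻¹ ∈ Subgroup.zpowers (ι (r 2)) := hQ.le ⟨_, Subgroup.mem_zpowers _, rfl⟩
    exact Subgroup.zpowers_le.mpr (d.mem _) this
  obtain ⟨i, hi⟩ := mem_rot.mp (d.rot_of_sq_ne hmem fun e => by
    have := orderOf_dvd_of_pow_eq_one (show (g * ι (r 2) * g⁻¹) ^ 2 = 1 by rw [pow_two]; exact e)
    rw [ho4] at this
    norm_num at this)
  have hi' : i = 2 ∨ i = 6 := by
    rw [← hi, orderOf_injective ι d.inj, DihedralGroup.orderOf_r] at ho4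
    exact (show ∀ i : ZMod 8, 8 / Nat.gcd 8 i.val = 4 → i = 2 ∨ i = 6 by decide) i ho4
  rcases hi' with rfl | rfl
  · exact key g hi.symm hga
  · refine key (ι (sr 0) * g) ?_ ?_
    · rw [show ι (sr 0) * g * ι (r 2) * (ι (sr 0) * g)⁻¹ = ι (sr 0) * (g * ι (r 2) * g⁻¹) * (ι (sr 0))⁻¹ by
        group, ← hi, ← map_inv, ← map_mul, ← map_mul, inv_sr, sr_mul_r, sr_mul_sr]
      congr 2
    · rw [← cjPair_cjPair _ _ (a := a) hf.1, hga]
      refine cjPair_eq_self_of_mem_stab (isBrauerPair_left (a := a₂) hb hP) (norm_le_stab hM hP hb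
        ⟨d.mem _, Subgroup.mem_normalizer_iff_map_conj_eq.mpr (map_conj_eq_four d ?_)⟩)
      rintro _ ⟨x, hx, rfl⟩
      exact D.mul_mem (D.mul_mem (d.mem _) (Subgroup.zpowers_le.mpr (d.mem _) hx)) (D.inv_mem (d.mem _))

/-- The Brauer morphism at the rotations of order four. -/
theorem br_gidemTop_four (hM : IsPModular 2 M) (hmax : IsMaximalBrauerPair 2 M B D e) (d : DData D ι 4)
    (hb : SubpairLE 2 M (Subgroup.zpowers (ι (r 2))) b D e) :
    br (Subgroup.zpowers (ι (r 2))) (gidemTop M B) = gidem M (Cen (Subgroup.zpowers (ι (r 2)))) b := by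
  have hB := hmax.1.2.1
  have hof : IsBrauerPairOf 2 M B (Subgroup.zpowers (ι (r 2))) b :=
    (brauerPairOf_iff_of_subpair hM (a := ⟨_, b⟩) (b := ⟨D, e⟩) hb).mp hmax.1
  have hQp := hof.1.1
  refine eq_of_occurs_iff (centralIn_br (isFixed_gidemTop _ B)) (centralIn_gidem b) ?_
    (gidem_mul_self hof.1.2) fun i => ?_
  · rw [← br_mul hM hQp (isFixed_gidemTop _ B) (isFixed_gidemTop _ B), gidemTop_mul_self hB]
  · constructor
    · intro h
      rw [pair_unique_four hM hmax d hb ((brauerPairOf_iff hM).mpr ⟨⟨hQp, i.2⟩, hB, h⟩)]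
      exact gidem_mul_self hof.1.2
    · intro h
      have hib : b = i.1 := by
        by_contra hne
        rw [gidem_mul_of_ne hof.1.2 i.2 hne] at h
        exact gidem_ne_zero i.2 h.symm
      rw [← hib]
      exact ((brauerPairOf_iff hM).mp hof).2.2

/-- Away from the central involution the block of the centraliser vanishes at involutions. -/
theorem involution_four (hM : IsPModular 2 M) (hmax : IsMaximalBrauerPair 2 M B D e) (d : DData D ι 4)
    (hb : SubpairLE 2 M (Subgroup.zpowers (ι (r 2))) b D e) {ψ : IrrCharacter (Cen (Subgroup.zpowers (ι (r 2))))}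
    (hψ : ψ ∈ b) {k : Cen (Subgroup.zpowers (ι (r 2)))} (hk : orderOf k = 2)
    (hne : (ψ : Cen (Subgroup.zpowers (ι (r 2))) → ℂ) k ≠ 0) : (k : G) = ι (r 4) := by
  have hF := blockFusion_spec hM hmax
  have hfc : (blockFusion hM hmax).IsFullyCentralized (Subgroup.zpowers (ι (r 2))) := by
    refine ⟨Subgroup.zpowers_le.mpr (d.mem _), fun Q' hQ' => ?_⟩
    obtain ⟨g, rfl, hg⟩ := (isConj_iff_pair hM hF hb).mp hQ'
    rw [map_conj_eq_four d (subgroup_le hg : (Subgroup.zpowers (ι (r 2))).map _ ≤ D)]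
  have hD := (fullyCentralized_iff hM hF hb).mp hfc
  have hbb : IsPBlock M b := (isBrauerPair_left (a := ⟨_, b⟩) hb hmax.1.1).2
  obtain ⟨D', hD', hkD⟩ := mem_defect_of_ne_zero hM hbb hψ
    (isPPart_self Nat.prime_two ⟨1, by rw [pow_one]; exact hk⟩) hne
  obtain ⟨w, hw⟩ := defectGroups_conj hM hbb hD' hD
  have hmem : ((w * k * w⁻¹ : Cen (Subgroup.zpowers (ι (r 2)))) : G) ∈ D :=
    (Subgroup.mem_subgroupOf.mp (hw.le ⟨k, hkD, rfl⟩)).1
  have hcomm := Subgroup.mem_centralizer_iff.mp (w * k * w⁻¹).2 _ (Subgroup.mem_zpowers (ι (r 2)))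
  obtain ⟨x, hx⟩ := d.surj hmem
  rw [← hx, ← map_mul, ← map_mul, d.inj.eq_iff] at hcomm
  have ho : orderOf x = 2 := by
    rw [← orderOf_injective ι d.inj, hx, Subgroup.orderOf_coe, ← (SemiconjBy.conj_mk w k).orderOf_eq, hk]
  rcases x with i | i
  swap
  · rw [r_mul_sr, sr_mul_r, sr.injEq] at hcomm
    exact absurd (show (2 : ZMod 8) + 2 = 0 by linear_combination -hcomm) (by decide)
  have hi : i = 4 := by
    rw [DihedralGroup.orderOf_r] at ho
    exact (show ∀ i : ZMod 8, 8 / Nat.gcd 8 i.val = 2 → i = 4 by decide) i ho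
  subst hi
  rw [Subgroup.coe_mul, Subgroup.coe_mul, Subgroup.coe_inv] at hx
  have hwz : (w : G) * ι (r 4) = ι (r 4) * (w : G) := by
    have h := Subgroup.mem_centralizer_iff.mp w.2 _ (Subgroup.pow_mem _ (Subgroup.mem_zpowers (ι (r 2))) 2)
    rw [← map_pow, pow_two, r_mul_r] at h
    exact h.symm
  calc (k : G) = (w : G)⁻¹ * ((w : G) * k * (w : G)⁻¹) * w := by group
    _ = (w : G)⁻¹ * (ι (r 4) * w) := by rw [← hx, mul_assoc]
    _ = ι (r 4) := by rw [← hwz, inv_mul_cancel_left]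

end CfsgLib.DihDefect
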