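import Cfsg.Agent.Lib.BlockArith.DihDefect.NoExceptional
import Cfsg.Agent.Lib.BrauerPairs.Stable

/-!
# The invariants of a 2-block with dihedral defect group
-/

set_option autoImplicit false

noncomputable section

open scoped Classical

namespace CfsgLib.DihDefect

open Cfsg CfsgLib.BrauerPairs

universe u

/-- Numbers of characters, heights and rank. -/
theorem dihedral_defect_invariants {G : Type u} [Group G] [Fintype G] {M : Ideal AlgInt} [M.IsMaximal]
    (hM : IsPModular 2 M) {B : Set (IrrCharacter G)} (hB : IsPBlock M B) {D : Subgroup G}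
    (hD : IsDefectGroup 2 M B D) {k : ℕ} (hk : 1 ≤ k) (ε : D ≃* DihedralGroup (2 ^ (k + 1))) :
    Nat.card B = 2 ^ k + 3 ∧ 1 ≤ blockRank 2 B ∧ blockRank 2 B ≤ 3 ∧
      Nat.card {χ : IrrCharacter G // χ ∈ B ∧ blockHeight 2 B (χ : G → ℂ) = 0} = 4 ∧
      ∀ χ ∈ B, blockHeight 2 B (χ : G → ℂ) ≤ 1 := by
  have : Fact (Nat.Prime 2) := ⟨Nat.prime_two⟩
  obtain ⟨e, hmax⟩ := exists_maximal_at hM hB hD
  set ι : DihedralGroup (2 ^ (k + 1)) →* G := D.subtype.comp ε.symm.toMonoidHom with hι
  have d : DData D ι (2 ^ k) :=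
    { inj := D.subtype_injective.comp ε.symm.injective
      range := by
        ext x
        refine ⟨?_, fun hx => ⟨ε ⟨x, hx⟩, ?_⟩⟩
        · rintro ⟨y, rfl⟩
          exact (ε.symm y).2
        · simp [hι]
      hm := by rw [pow_succ]; ring
      hpos := Nat.pos_of_ne_zero (pow_ne_zero _ two_ne_zero)
      even := Nat.even_pow.mpr ⟨even_two, by omega⟩
      pow := ⟨k + 1, rfl⟩ }
  obtain ⟨R, hR⟩ := exists_rotRows hM hmax d
  refine invariants_of_rows hM hmax d hR fun ψ u h4 hψ hu hE => ?_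
  obtain rfl : k = 2 := Nat.pow_right_injective le_rfl (show 2 ^ k = 2 ^ 2 from h4)
  exact no_exceptional hM hmax d hR hψ hu hE

end CfsgLib.DihDefect
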