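import Cfsg.Agent.Lib.BlockArith.DihDefect.Count
import Cfsg.Agent.Lib.BlockArith.DihDefect.ConvFour

/-!
# The exceptional configuration does not occur

* `eq_zero_of_orth`: orthogonality to a full orthogonal system;
* `section_four`: with five characters the section of the central involution has one block;
* `no_exceptional`: the configuration with five characters and defect group of order sixteen is
  impossible.
-/

set_option autoImplicit false

noncomputable section

open scoped ComplexConjugate Classical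

namespace CfsgLib.DihDefect

open Cfsg CfsgLib.Blocks CfsgLib.BlockArith CfsgLib.Char CfsgLib.BrauerPairs CfsgLib.NilBlock
open DihedralGroup

universe u

theorem eq_zero_of_orth {α : Type*} (S : Finset α) {n : ℕ} (hn : S.card = n) (V : Fin n → α → ℂ)
    (hdiag : ∀ i, ∑ x ∈ S, V i x * conj (V i x) ≠ 0)
    (horth : ∀ i j, i ≠ j → ∑ x ∈ S, V i x * conj (V j x) = 0) (c : α → ℂ)
    (hc : ∀ i, ∑ x ∈ S, V i x * conj (c x) = 0) : ∀ x ∈ S, c x = 0 := by
  have hli : LinearIndependent ℂ (fun i => fun x : S => V i x) := by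
    rw [Fintype.linearIndependent_iff]
    intro g hg i
    have h2 : ∑ x : S, (∑ j, g j * V j x) * conj (V i x) = 0 := Finset.sum_eq_zero fun x _ => by
      have := congrFun hg x
      simp only [Finset.sum_apply, Pi.smul_apply, smul_eq_mul, Pi.zero_apply] at this
      rw [this, zero_mul]
    simp only [Finset.sum_mul] at h2
    rw [Finset.sum_comm, Finset.sum_eq_single i (fun j _ hj => ?_) (by simp)] at h2
    · simp only [mul_assoc, ← Finset.mul_sum] at h2
      rw [Finset.sum_coe_sort S (fun x => V i x * conj (V i x))] at h2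
      exact (mul_eq_zero.mp h2).resolve_right (hdiag i)
    · simp only [mul_assoc, ← Finset.mul_sum]
      rw [Finset.sum_coe_sort S (fun x => V j x * conj (V i x)), horth j i hj, mul_zero]
  have htop : Submodule.span ℂ (Set.range fun i => fun x : S => V i x) = ⊤ :=
    hli.span_eq_top_of_card_eq_finrank' (by
      rw [Fintype.card_fin, Module.finrank_fintype_fun_eq_card, Fintype.card_coe, hn])
  obtain ⟨g, hg⟩ := Submodule.mem_span_range_iff_exists_fun ℂ |>.mp
    (htop ▸ Submodule.mem_top : (fun x : S => c x) ∈ Submodule.span ℂ (Set.range fun i => fun x : S => V i x))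
  have h0 : ∑ x : S, Complex.normSq (c x) = 0 := by
    apply Complex.ofReal_injective
    rw [Complex.ofReal_sum, Complex.ofReal_zero]
    calc ∑ x : S, ((Complex.normSq (c x) : ℝ) : ℂ) = ∑ x : S, (∑ j, g j * V j x) * conj (c x) := by
          refine Finset.sum_congr rfl fun x _ => ?_
          have := congrFun hg x
          simp only [Finset.sum_apply, Pi.smul_apply, smul_eq_mul] at this
          rw [this, Complex.mul_conj]
      _ = 0 := by
          simp only [Finset.sum_mul]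
          rw [Finset.sum_comm]
          refine Finset.sum_eq_zero fun j _ => ?_
          simp only [mul_assoc, ← Finset.mul_sum]
          rw [Finset.sum_coe_sort S (fun x => V j x * conj (c x)), hc j, mul_zero]
  intro x hx
  exact Complex.normSq_eq_zero.mp
    ((Finset.sum_eq_zero_iff_of_nonneg fun x _ => Complex.normSq_nonneg _).mp h0 ⟨x, hx⟩ (Finset.mem_univ _))

variable {G : Type u} [Group G] [Fintype G] {M : Ideal AlgInt} [M.IsMaximal] [hp : Fact (Nat.Prime 2)]
  {B : Set (IrrCharacter G)} {D : Subgroup G} {e : Set (IrrCharacter (Cen D))} {ι : DihedralGroup 8 →* G}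
  {R : IrrCharacter G → ZMod 8 → ℂ}

set_option maxHeartbeats 1000000 in
/-- With five characters the section of the central involution has a single block of `B`. -/
theorem section_four (hM : IsPModular 2 M) (hmax : IsMaximalBrauerPair 2 M B D e) (d : DData D ι 4)
    (hR : RotRows M B D e ι 4 R) (hk : (bset B).card = 5)
    {b : Set (IrrCharacter (Cen (Subgroup.zpowers (ι (r 4)))))} {v : Cen (Subgroup.zpowers (ι (r 4))) → ℂ}
    (hle : SubpairLE 2 M (Subgroup.zpowers (ι (r 4))) b D e)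
    (hind : IsInducedBlock M (Cen (Subgroup.zpowers (ι (r 4)))) b B)
    (hval : ∀ (χ : IrrCharacter G) (s : Cen (Subgroup.zpowers (ι (r 4)))), ¬ 2 ∣ orderOf s →
        secH (ι (r 4)) (Cen (Subgroup.zpowers (ι (r 4)))) b χ s = R χ 4 * v s)
    {χ : IrrCharacter G} (hχ : χ ∈ B) {s : Cen (Subgroup.zpowers (ι (r 4)))} (hs : ¬ 2 ∣ orderOf s) :
    (χ : G → ℂ) (ι (r 4) * (s : G)) = R χ 4 * v s := by
  have hB := hmax.1.2.1
  have hP := hmax.1.1
  have hpow : ∀ l : ZMod 8, ∃ k : ℕ, orderOf (ι (r l)) = 2 ^ k := fun l => exists_pow_of_mem hP.1 (d.mem _)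
  have hbp : IsBrauerPair 2 M (Subgroup.zpowers (ι (r 4))) b := isBrauerPair_left (a := ⟨_, b⟩) hle hP
  have := Fintype.ofFinite {b : Set (IrrCharacter (Cen (Subgroup.zpowers (ι (r 4))))) // IsPBlock M b}
  have hsum := sum_inducingH (cen_zpowers (ι (r 4))) hM (hpow 4) hB χ hχ hs
  rw [Finset.sum_eq_single ⟨b, hbp.2⟩, if_pos hind, hval χ s hs] at hsum
  · exact hsum.symm
  swap
  · exact fun h => absurd (Finset.mem_univ _) h
  rintro ⟨b', hb'⟩ - hne
  rw [if_neg]
  intro hind'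
  have hne' : b' ≠ b := fun he => hne (Subtype.ext he)
  obtain ⟨s', hs', χ', hχ', hc'⟩ := exists_column hM (cen_zpowers (ι (r 4))) (hpow 4) hind'
  apply hc'
  let c : IrrCharacter G → ℂ := fun η => secH (ι (r 4)) (Cen (Subgroup.zpowers (ι (r 4)))) b' η s'
  let V : Fin 5 → IrrCharacter G → ℂ := Fin.cons (fun η => (η : G → ℂ) 1) fun i η => R η (((i : ℕ) + 1 : ℕ) : ZMod 8)
  have hidx : ∀ i : Fin 4, (((i : ℕ) + 1 : ℕ) : ZMod 8) ≠ 0 := by decide
  have hidx' : ∀ i j : Fin 4, i ≠ j → (((j : ℕ) + 1 : ℕ) : ZMod 8) ≠ (((i : ℕ) + 1 : ℕ) : ZMod 8) ∧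
      (((j : ℕ) + 1 : ℕ) : ZMod 8) ≠ -(((i : ℕ) + 1 : ℕ) : ZMod 8) := by decide
  refine eq_zero_of_orth (bset B) hk V (fun i => ?_) (fun i j hij => ?_) c (fun i => ?_) χ' (mem_bset.mpr hχ')
  · refine Fin.cases ?_ (fun i => ?_) i
    · simp only [V, Fin.cons_zero]
      rw [Finset.sum_congr rfl fun η _ => Complex.mul_conj _, ← Complex.ofReal_sum, Complex.ofReal_ne_zero]
      refine (Finset.sum_pos (fun η _ => Complex.normSq_pos.mpr (irr_one_ne_zero η.2)) ?_).ne'
      exact Finset.card_pos.mp (by omega)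
    · simp only [V, Fin.cons_succ]
      rw [hR.orth _ _ (hidx i) (hidx i), if_pos rfl]
      refine mul_ne_zero (by norm_num) ?_
      split_ifs <;> norm_num
  · have h0 : ∀ i : Fin 4, ∑ η ∈ bset B, (η : G → ℂ) 1 * R η (((i : ℕ) + 1 : ℕ) : ZMod 8) = 0 :=
      fun i => hR.reg _ (hidx i) 1 (by rw [orderOf_one]; decide)
    revert hij
    refine Fin.cases ?_ (fun i => ?_) i <;> refine Fin.cases ?_ (fun j => ?_) j <;> intro hij
    · exact absurd rfl hij
    · simp only [V, Fin.cons_zero, Fin.cons_succ, hR.real]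
      exact h0 j
    · simp only [V, Fin.cons_zero, Fin.cons_succ]
      rw [← h0 i]
      refine Finset.sum_congr rfl fun η _ => ?_
      rw [char_conj_one (isCharacter_of_isIrr η.2)]
      ring
    · simp only [V, Fin.cons_succ]
      have hij' : i ≠ j := fun he => hij (by rw [he])
      rw [hR.orth _ _ (hidx i) (hidx j), if_neg (hidx' i j hij').1, if_neg (hidx' i j hij').2, add_zero, mul_zero]
  · refine Fin.cases ?_ (fun i => ?_) i
    · simp only [V, Fin.cons_zero]
      have h1 := sum_char_mul_secH hM (hpow 4) hb' (g := (1 : G)) (u := 1)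
        (isPPart_one_iff.mpr (by rw [orderOf_one]; decide))
        (fun hc => d.rot_ne_one (by decide : (4 : ZMod 8) ≠ 0) (isConj_one_left.mp hc.symm)) hs'
      rw [← Finset.sum_subset (Finset.subset_univ (bset B)) fun η _ hη => by
        rw [secH_eq_zero (cen_zpowers (ι (r 4))) hM (hpow 4) hind' (fun h => hη (mem_bset.mpr h)) hs']; simp] at h1
      exact h1
    · simp only [V, Fin.cons_succ]
      set l : ZMod 8 := (((i : ℕ) + 1 : ℕ) : ZMod 8) with hl
      obtain ⟨bl, vl, hlel, hindl, -, hnorml, hvall, -⟩ := hR.sec l (hidx i)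
      obtain ⟨t, ht, hvt⟩ := exists_ne_zero_of_norm hnorml
      have h1 := sum_secH_cross hM (hpow 4) (hpow l) hb' hindl.1 (fun g hg hgb => ?_) hs' ht
      · rw [← Finset.sum_subset (Finset.subset_univ (bset B)) fun η _ hη => by
          rw [secH_eq_zero (cen_zpowers (ι (r 4))) hM (hpow 4) hind' (fun h => hη (mem_bset.mpr h)) hs']; simp] at h1
        have h2 := congrArg conj h1
        rw [map_sum, map_zero] at h2
        refine (mul_eq_zero.mp (Eq.trans ?_ h2)).resolve_right hvt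
        rw [Finset.sum_mul]
        refine Finset.sum_congr rfl fun η _ => ?_
        rw [map_mul, Complex.conj_conj, hvall η t ht]
        ring
      · have ho : orderOf (ι (r l)) = orderOf (ι (r 4)) := by
          rw [← hg, ← (SemiconjBy.conj_mk g (ι (r l))).orderOf_eq]
        rw [orderOf_injective ι d.inj, orderOf_injective ι d.inj, DihedralGroup.orderOf_r,
          DihedralGroup.orderOf_r] at ho
        have hl4 : l = 4 :=
          (show ∀ x : ZMod 8, 8 / Nat.gcd 8 x.val = 8 / Nat.gcd 8 (4 : ZMod 8).val → x = 4 by decide) l ho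
        clear_value l
        subst hl4
        have hgc : g ∈ Cen (Subgroup.zpowers (ι (r 4))) :=
          CfsgLib.NilBlock.mem_cen_zpowers.mpr (mul_inv_eq_iff_eq_mul.mp hg)
        have hblp : IsBrauerPair 2 M (Subgroup.zpowers (ι (r 4))) bl := isBrauerPair_left (a := ⟨_, bl⟩) hlel hP
        rw [cjPair_eq_self_of_mem_stab hblp (cen_le_stab _ hgc)] at hgb
        have e1 : bl = b' := eq_of_heq (Sigma.mk.injEq .. ▸ hgb).2
        have e2 : bl = b := subpair_eq hM hP hlel hle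
        exact hne' (e1.symm.trans e2)

set_option maxHeartbeats 1600000 in
/-- **No exceptional configuration.** -/
theorem no_exceptional (hM : IsPModular 2 M) (hmax : IsMaximalBrauerPair 2 M B D e) (d : DData D ι 4)
    (hR : RotRows M B D e ι 4 R) {ψ : AddChar (ZMod 8) ℂ} (hψ : ψ.IsPrimitive)
    {u : IrrCharacter G → ZMod 8 → ℤ} (hu : ∀ χ j, coef ψ (R χ) j = (u χ j : ℂ))
    (hE : Exceptional (bset B) (fun (i : Fin 3) χ => u χ (idx 8 i)) (fun χ => u χ ((4 : ℕ) : ZMod 8))) : False := by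
  obtain ⟨hk, hE⟩ := hE
  have hB := hmax.1.2.1
  have hP := hmax.1.1
  set vv : Fin 3 → IrrCharacter G → ℤ := fun i χ => u χ (idx 8 i) with hvv
  set ww : IrrCharacter G → ℤ := fun χ => u χ ((4 : ℕ) : ZMod 8) with hww
  -- values
  have hZ : ∀ χ, R χ 4 = (excZ vv ww χ : ℂ) := fun χ => by
    rw [show (4 : ZMod 8) = ((4 : ℕ) : ZMod 8) from rfl, zval_eq d hψ hR hu χ]
    congr 1
    rw [show (4 - 1 : ℕ) = 3 from rfl, Fin.sum_univ_three]
    simp only [excZ, hvv, hww]
    norm_num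
    ring
  have hR1 : ∀ χ, R χ 1 = excR vv ww (ψ 1 + ψ (-1)) χ := fun χ => by
    rw [value_one_eight hψ (R χ) (hR.neg χ), hu, hu, hu]
    rfl
  have hcoef : ∀ j, ∑ χ ∈ bset B, (u χ j : ℂ) * (χ : G → ℂ) 1 = 0 := fun j => by
    simp only [← hu, coef, Finset.mul_sum, Finset.sum_mul]
    rw [Finset.sum_comm]
    refine Finset.sum_eq_zero fun l _ => ?_
    by_cases hl : l = 0
    · simp [hl]
    · refine Eq.trans ?_ (mul_eq_zero_of_right (((8 : ℕ) : ℂ)⁻¹ * (ψ (-(j * l)) - 1))
        (hR.reg l hl 1 (by rw [orderOf_one]; decide)))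
      rw [Finset.mul_sum]
      exact Finset.sum_congr rfl fun χ _ => by ring
  obtain ⟨χ₁, hχ₁, hodd, hval32⟩ := hE (fun χ => (χ : G → ℂ) 1) (fun χ _ => irr_one_ne_zero χ.2)
    (fun i => hcoef _) (hcoef _) (ψ 1 + ψ (-1))
  rw [mem_bset] at hχ₁
  -- the sections
  obtain ⟨bz, vz, hlez, hindz, hdefz, hnormz, hvalz, honez⟩ := hR.sec 4 (by decide)
  obtain ⟨ω, d₀, hv1, hω, hd₀, hd₀v⟩ := honez rfl
  obtain ⟨b₁, v₁, hle₁, hind₁, hdef₁, hnorm₁, hval₁, -⟩ := hR.sec 1 (by decide)
  obtain ⟨b₂, v₂, hle₂, -, -, -, -, -⟩ := hR.sec 2 (by decide)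
  have hdB : blockDefect 2 B = 4 := by
    refine Nat.pow_right_injective le_rfl ?_
    show 2 ^ blockDefect 2 B = 2 ^ 4
    rw [← card_defectGroup hM hB (isDefectGroup_of_maximal hM hmax), d.card]
  have hdz : blockDefect 2 bz = blockDefect 2 B := by
    rw [hdB]
    refine Nat.pow_right_injective le_rfl ?_
    show 2 ^ blockDefect 2 bz = 2 ^ 4
    rw [hdefz]
    rfl
  -- height zero
  obtain ⟨hodd', hdvd⟩ := height_facts hM (cen_zpowers _) (exists_pow_of_mem hP.1 (d.mem _)) hindz hdz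
    (excZ vv ww) (fun χ η => by rw [hR.ctr_eq hnormz hvalz, hZ, hZ])
  obtain ⟨χ₀, hχ₀, hh₀⟩ := exists_height_zero (p := 2) hM hB
  have hh₁ : blockHeight 2 B (χ₁ : G → ℂ) = 0 := by
    by_contra hne
    have h1 : (2 : ℤ) ∣ excZ vv ww χ₀ * excZ vv ww χ₁ :=
      (Dvd.dvd.trans (by exact_mod_cast dvd_pow_self 2 hne)) (hdvd χ₀ hχ₀ hh₀ χ₁ hχ₁).2
    refine Int.not_even_iff_odd.mpr ((hodd' χ₀ hχ₀ hh₀).mul ?_) (even_iff_two_dvd.mpr h1)
    show Odd (2 * _ + ww χ₁)
    exact (even_two_mul _).add_odd hodd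
  -- the function on the section of a rotation of order eight
  set z := ι (r 4) with hz
  have hz2 : z * z = 1 := by rw [hz, ← map_mul, r_mul_r, show (r (4 + 4) : DihedralGroup 8) = 1 from rfl, map_one]
  set K : ℂ := (Nat.card (Subgroup.centralizer ({z} : Set G)) : ℂ) with hK
  set a : IrrCharacter G → ℂ := fun χ => (Nat.card G : ℂ) / K ^ 2 * ((χ : G → ℂ) z ^ 2 / (χ : G → ℂ) 1) with ha
  let f : (Cen (Subgroup.zpowers (ι (r 1)))) → ℂ := fun s => ∑ χ ∈ bset B, a χ / 4 * (χ : G → ℂ) (ι (r 1) * (s : G))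
  have hrc : ∀ s : (Cen (Subgroup.zpowers (ι (r 1)))), (s : G) * ι (r 1) = ι (r 1) * (s : G) := fun s =>
    (Subgroup.mem_centralizer_iff.mp s.2 _ (Subgroup.mem_zpowers (ι (r 1)))).symm
  have hfcl : IsClassFunction (Cen (Subgroup.zpowers (ι (r 1)))) f := fun g s => by
    refine Finset.sum_congr rfl fun χ _ => ?_
    congr 1
    rw [Subgroup.coe_mul, Subgroup.coe_mul, Subgroup.coe_inv, ← isClassFunction_of_isIrr χ.2 (ι (r 1) * (g : G)) s]
    congr 1
    rw [← mul_assoc (s : G), hrc s]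
    group
  have hfint : ∀ s : (Cen (Subgroup.zpowers (ι (r 1)))), ¬ 2 ∣ orderOf s → f s ∈ locRing M := fun s hs => by
    obtain ⟨y, hy, hsq⟩ := classConv_sq_four hM hmax d hle₂ (c := (s : G)) (hrc s) (by rwa [Subgroup.orderOf_coe])
    rw [classConv_sq B hz2] at hsq
    suffices hfy : f s = y by rw [hfy]; exact hy
    refine mul_left_cancel₀ (show (4 : ℂ) ≠ 0 by norm_num) (Eq.trans ?_ hsq)
    rw [← Finset.sum_filter, Finset.mul_sum, Finset.mul_sum, show bset B = Finset.univ.filter (· ∈ B) by ext χ; simp]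
    refine Finset.sum_congr rfl fun χ _ => ?_
    simp only [ha, hK]
    ring
  have hmem := div_card_mul_regSum_mem hM (cen_zpowers (ι (r 1))) hind₁.1 χ₁ hfcl hfint
  -- compute
  have hctr : ∀ χ : IrrCharacter G, ((2 ^ blockDefect 2 b₁ : ℕ) : ℂ) / (Nat.card (Cen (Subgroup.zpowers (ι (r 1)))) : ℂ) *
      regSum 2 (fun s : (Cen (Subgroup.zpowers (ι (r 1)))) => (χ : G → ℂ) (ι (r 1) * (s : G))) (secH (ι (r 1)) (Cen (Subgroup.zpowers (ι (r 1)))) b₁ χ₁) = R χ 1 * R χ₁ 1 := fun χ => by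
    rw [sum_reg_secH hM (cen_zpowers (ι (r 1))) hind₁.1, ← hR.ctr_eq hnorm₁ hval₁]
    rfl
  have hlin : ((2 ^ blockDefect 2 b₁ : ℕ) : ℂ) / (Nat.card (Cen (Subgroup.zpowers (ι (r 1)))) : ℂ) * regSum 2 f (secH (ι (r 1)) (Cen (Subgroup.zpowers (ι (r 1)))) b₁ χ₁) =
      ∑ χ ∈ bset B, a χ / 4 * (R χ 1 * R χ₁ 1) := by
    simp only [← hctr, regSum_eq, f, Finset.mul_sum, Finset.sum_mul]
    rw [Finset.sum_comm]
    refine Finset.sum_congr rfl fun s _ => ?_
    split_ifs
    · simp
    · rw [Finset.mul_sum]; exact Finset.sum_congr rfl fun χ _ => by ring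
  rw [hlin] at hmem
  have hθ : ∀ χ ∈ bset B, (χ : G → ℂ) z ^ 2 = (excZ vv ww χ : ℂ) ^ 2 * (d₀ : ℂ) ^ 2 := fun χ hχ => by
    have h := section_four hM hmax d hR hk hlez hindz hvalz (mem_bset.mp hχ)
      (s := (1 : Cen (Subgroup.zpowers (ι (r 4))))) (by rw [orderOf_one]; decide)
    rw [OneMemClass.coe_one, mul_one] at h
    rw [hz, h, hv1, hZ, mul_pow, mul_pow, hω, one_mul]
  have hX : ∑ χ ∈ bset B, a χ / 4 * (R χ 1 * R χ₁ 1) =
      (Nat.card G : ℂ) * (d₀ : ℂ) ^ 2 / (4 * K ^ 2) * (32 / (3 * (χ₁ : G → ℂ) 1)) := by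
    rw [← hval32, Finset.sum_mul, Finset.mul_sum]
    refine Finset.sum_congr rfl fun χ hχ => ?_
    simp only [ha]
    rw [hθ χ hχ, hR1, hR1]
    ring
  rw [hX] at hmem
  set N := Nat.card (Subgroup.centralizer ({z} : Set G)) with hN
  refine not_mem_locRing_of hM (A := 8 * Nat.card G * d₀ ^ 2) (B := 3 * N ^ 2 * charDegree (χ₁ : G → ℂ))
    ?_ ?_ ?_ ?_ hmem
  · exact mul_ne_zero (mul_ne_zero (by norm_num) Nat.card_pos.ne') (pow_ne_zero _ hd₀)
  · exact mul_ne_zero (mul_ne_zero (by norm_num) (pow_ne_zero _ Nat.card_pos.ne')) (CharBlocks.charDegree_pos χ₁.2).ne'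
  · have hN' : Nat.card (Cen (Subgroup.zpowers (ι (r 4)))) = N := by rw [hN, hz, CfsgLib.NilBlock.cen_zpowers]
    have hdeg := degree_height hM hB hχ₁
    rw [hh₁, add_zero, hdB] at hdeg
    rw [hdB, hN'] at hd₀v
    have hd1 := (CharBlocks.charDegree_pos χ₁.2).ne'
    have hN0 : N ≠ 0 := Nat.card_pos.ne'
    rw [Nat.factorization_mul (mul_ne_zero (by norm_num) (pow_ne_zero _ hN0)) hd1,
      Nat.factorization_mul (by norm_num) (pow_ne_zero _ hN0),
      Nat.factorization_mul (mul_ne_zero (by norm_num) Nat.card_pos.ne') (pow_ne_zero _ hd₀),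
      Nat.factorization_mul (by norm_num) Nat.card_pos.ne', Nat.factorization_pow, Nat.factorization_pow,
      show (8 : ℕ) = 2 ^ 3 from rfl, Nat.Prime.factorization_pow Nat.prime_two]
    simp only [Finsupp.coe_add, Pi.add_apply, Finsupp.smul_apply, smul_eq_mul, Finsupp.single_eq_same,
      Nat.factorization_eq_zero_of_not_dvd (show ¬ 2 ∣ 3 by decide)]
    omega
  · have hd1 : (charDegree (χ₁ : G → ℂ) : ℂ) ≠ 0 := Nat.cast_ne_zero.mpr (CharBlocks.charDegree_pos χ₁.2).ne'
    have hN0 : (N : ℂ) ≠ 0 := Nat.cast_ne_zero.mpr Nat.card_pos.ne'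
    rw [hK, CfsgLib.Blocks.charDegree_eq (isCharacter_of_isIrr χ₁.2)]
    push_cast
    field_simp
    ring

end CfsgLib.DihDefect
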