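import Cfsg.Agent.Lib.Blocks.Orth
import Cfsg.Agent.Lib.Blocks.Heights
import Mathlib.FieldTheory.Minpoly.Field

/-!
# Two is unramified for roots of unity of odd order

* `half_mem_locRing`: an element of the local ideal, rational over the odd roots of unity, is twice
  a local integer;
* `blockCoeff_mem_rootRing`: the idempotent coefficients of blocks are of this kind.
-/

set_option autoImplicit false

noncomputable section

namespace CfsgLib.DihDefect

open Cfsg CfsgLib.Blocks Polynomial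
open scoped ComplexConjugate

/-- The ring generated by the `m`-th roots of unity. -/
def rootRing (m : ℕ) : Subring ℂ := Subring.closure {z : ℂ | z ^ m = 1}

variable {M : Ideal AlgInt} [M.IsMaximal]

theorem res_natCast_odd (hM : IsPModular 2 M) {n : ℕ} (hn : ¬ 2 ∣ n) : (n : Res M) ≠ 0 := fun h =>
  hn ((res_natCast_eq_zero_iff M hM n).mp ((map_natCast (res M) n).trans h))

/-- **No ramification at two.** -/
theorem half_mem_locRing (hM : IsPModular 2 M) {m : ℕ} (hm : ¬ 2 ∣ m) {x : ℂ} {N : ℕ} (hN : N ≠ 0)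
    (hNx : (N : ℂ) * x ∈ rootRing m) (hx : MemLocalIdeal M x) : x / 2 ∈ locRing M := by
  classical
  have : Fact (Nat.Prime 2) := ⟨Nat.prime_two⟩
  have : CharP (Res M) 2 := res_charP M hM
  let _ : Algebra (ZMod 2) (Res M) := ZMod.algebra (Res M) 2
  have hm0 : m ≠ 0 := fun h => hm (h ▸ dvd_zero 2)
  obtain ⟨ζ, hζ⟩ : ∃ ζ : ℂ, IsPrimitiveRoot ζ m := ⟨_, Complex.isPrimitiveRoot_exp m hm0⟩
  let zeta : AlgInt := ⟨ζ, hζ.isIntegral (Nat.pos_of_ne_zero hm0)⟩
  let ev : ℤ[X] →+* AlgInt := eval₂RingHom (Int.castRingHom AlgInt) zeta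
  let red : ℤ[X] →+* Res M := (Ideal.Quotient.mk M).comp ev
  let evC : ℤ[X] →+* ℂ := (AlgInt.val.toRingHom).comp ev
  set r : Res M := red X with hr
  have hmap : ∀ P : ℤ[X], aeval r (P.map (Int.castRingHom (ZMod 2))) = red P := by
    intro P
    have : ((aeval r).toRingHom.comp (mapRingHom (Int.castRingHom (ZMod 2)))) = red := by
      refine Polynomial.ringHom_ext' (Subsingleton.elim _ _) ?_
      simp [hr]
    exact RingHom.congr_fun this P
  have hXm : evC (X ^ m - 1) = 0 := by
    simp only [evC, ev, RingHom.comp_apply, map_sub, map_pow, map_one, coe_eval₂RingHom, eval₂_X]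
    show ζ ^ m - 1 = 0
    rw [hζ.pow_eq_one, sub_self]
  have hrm : r ^ m = 1 := by
    rw [← sub_eq_zero, hr, ← map_pow, ← map_one red, ← map_sub]
    have h0 : ev (X ^ m - 1) = 0 := Subtype.ext hXm
    show Ideal.Quotient.mk M (ev (X ^ m - 1)) = 0
    rw [h0, map_zero]
  set f := minpoly (ZMod 2) r with hf
  obtain ⟨g, hg⟩ : f ∣ X ^ m - 1 := minpoly.dvd (ZMod 2) r (by simp [hrm])
  have hgr : aeval r g ≠ 0 := by
    intro h
    have h1 := congrArg (fun P => aeval r (derivative P)) hg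
    simp only [derivative_sub, derivative_one, derivative_X_pow, derivative_mul, sub_zero, map_add, map_mul,
      map_pow, aeval_X, map_natCast, h, hf, minpoly.aeval, mul_zero, zero_mul, add_zero] at h1
    refine mul_ne_zero (res_natCast_odd hM hm) (pow_ne_zero _ fun h0 => ?_) h1
    rw [h0, zero_pow hm0] at hrm
    exact zero_ne_one hrm
  obtain ⟨Gg, hGg⟩ := Polynomial.map_surjective (Int.castRingHom (ZMod 2)) ZMod.intCast_surjective g
  -- fractions
  let Fr : ℂ → Prop := fun y => ∃ A B : ℤ[X], red B ≠ 0 ∧ evC B * y = evC A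
  have hnotM : ∀ B : ℤ[X], red B ≠ 0 → ev B ∉ M := fun B hB h => hB (Ideal.Quotient.eq_zero_iff_mem.mpr h)
  have hloc : ∀ y : ℂ, Fr y → y ∈ locRing M := by
    rintro y ⟨A, B, hB, hy⟩
    have hB0 := coe_ne_zero_of_notMem (hnotM B hB)
    refine ⟨ev A, ev B, hnotM B hB, ?_⟩
    show evC A / evC B = y
    rw [← hy, mul_div_cancel_left₀ _ (show evC B ≠ 0 from hB0)]
  have hkey : ∀ y : ℂ, Fr y → MemLocalIdeal M y → Fr (y / 2) := by
    rintro y ⟨A, B, hB, hy⟩ hyI
    have hA : red A = 0 := by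
      have h1 : (ofInt M (ev A) : locRing M) = ofInt M (ev B) * ⟨y, memLocalRing_of_memLocalIdeal M hyI⟩ :=
        Subtype.ext hy.symm
      have h2 := congrArg (res M) h1
      rw [map_mul, (res_eq_zero_iff M ⟨y, memLocalRing_of_memLocalIdeal M hyI⟩).mpr hyI, mul_zero,
        res_ofInt] at h2
      exact h2
    obtain ⟨h, hh⟩ : f ∣ A.map (Int.castRingHom (ZMod 2)) := minpoly.dvd (ZMod 2) r (by rw [hmap, hA])
    obtain ⟨H, hH⟩ := Polynomial.map_surjective (Int.castRingHom (ZMod 2)) ZMod.intCast_surjective h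
    have hdiv : C (2 : ℤ) ∣ Gg * A - (X ^ m - 1) * H := by
      rw [C_dvd_iff_dvd_coeff]
      intro i
      have h1 : ((Gg * A - (X ^ m - 1) * H).map (Int.castRingHom (ZMod 2))).coeff i = 0 := by
        rw [Polynomial.map_sub, Polynomial.map_mul, Polynomial.map_mul, Polynomial.map_sub, Polynomial.map_pow,
          map_X, Polynomial.map_one, hGg, hH, hh, hg]
        simp [mul_assoc, mul_comm, mul_left_comm]
      rw [coeff_map] at h1
      exact (ZMod.intCast_zmod_eq_zero_iff_dvd _ 2).mp h1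
    obtain ⟨A', hA'⟩ := hdiv
    refine ⟨A', Gg * B, ?_, ?_⟩
    · rw [map_mul, mul_ne_zero_iff]
      exact ⟨by rw [← hmap, hGg]; exact hgr, hB⟩
    · have h1 := congrArg evC hA'
      rw [map_sub, map_mul, map_mul, map_mul, hXm, zero_mul, sub_zero, ← hy] at h1
      rw [map_mul]
      have h2 : evC (C (2 : ℤ)) = 2 := by rw [map_ofNat C 2]; exact map_ofNat evC 2
      rw [h2] at h1
      linear_combination h1 / 2
  have hgen : ∀ z ∈ rootRing m, Fr z := by
    intro z hz
    have hle : rootRing m ≤ evC.range := by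
      refine Subring.closure_le.mpr fun w hw => ?_
      have : NeZero m := ⟨hm0⟩
      obtain ⟨i, -, rfl⟩ := hζ.eq_pow_of_pow_eq_one hw
      exact ⟨X ^ i, by simp [evC, ev, zeta]⟩
    obtain ⟨P, rfl⟩ := hle hz
    exact ⟨P, 1, by rw [map_one]; exact one_ne_zero, by rw [map_one, one_mul]⟩
  have hdesc : ∀ N : ℕ, N ≠ 0 → Fr ((N : ℂ) * x) → Fr x := by
    intro N
    induction N using Nat.strong_induction_on with
    | _ N ih =>
      intro hN hFr
      rcases Nat.even_or_odd' N with ⟨k, rfl | rfl⟩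
      · refine ih k (by omega) (by omega) ?_
        have h2 : MemLocalIdeal M (((2 * k : ℕ) : ℂ) * x) := by
          refine (res_eq_zero_iff M (((2 * k : ℕ) : locRing M) * ⟨x, memLocalRing_of_memLocalIdeal M hx⟩)).mp ?_
          rw [map_mul, (res_eq_zero_iff M ⟨x, memLocalRing_of_memLocalIdeal M hx⟩).mpr hx, mul_zero]
        have h3 := hkey _ hFr h2
        rwa [show ((2 * k : ℕ) : ℂ) * x / 2 = (k : ℂ) * x by push_cast; ring] at h3
      · obtain ⟨A, B, hB, hAB⟩ := hFr
        refine ⟨A, B * ((2 * k + 1 : ℕ) : ℤ[X]), ?_, ?_⟩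
        · rw [map_mul, map_natCast]
          exact mul_ne_zero hB (res_natCast_odd hM (by omega))
        · rw [map_mul, map_natCast, mul_assoc, hAB]
  exact hloc _ (hkey _ (hdesc N hN (hgen _ hNx)) hx)

variable {G : Type*} [Group G] [Finite G]

theorem char_mem_rootRing {θ : G → ℂ} (hθ : IsCharacter G θ) {g : G} {m : ℕ} (hg : orderOf g ∣ m) :
    θ g ∈ rootRing m := by
  obtain ⟨n, ρ, rfl⟩ := hθ
  obtain ⟨z, hz, hsum⟩ := CfsgLib.Char.exists_roots_char ρ g
  rw [hsum]
  refine Subring.sum_mem _ fun i _ => Subring.subset_closure ?_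
  obtain ⟨k, hk⟩ := hg
  show z i ^ m = 1
  rw [hk, pow_mul, hz i, one_pow]

theorem blockCoeff_mem_rootRing (hM : IsPModular 2 M) {B : Set (IrrCharacter G)} (hB : IsPBlock M B)
    {m : ℕ} (hm : ∀ g : G, ¬ 2 ∣ orderOf g → orderOf g ∣ m) (g : G) :
    (Nat.card G : ℂ) * blockCoeff B g ∈ rootRing m := by
  classical
  have := Fintype.ofFinite G
  by_cases hg : 2 ∣ orderOf g
  · rw [blockCoeff_eq_zero hM hB hg, mul_zero]
    exact Subring.zero_mem _
  · rw [blockCoeff_eq, ← mul_assoc, mul_inv_cancel₀ CfsgLib.Char.card_ne_zero', one_mul]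
    refine Subring.sum_mem _ fun χ _ => ?_
    split_ifs
    · refine Subring.mul_mem _ ?_ ?_
      · exact char_mem_rootRing (CfsgLib.Char.isCharacter_of_isIrr χ.2) (by rw [orderOf_one]; exact one_dvd m)
      · rw [← CfsgLib.Char.char_inv (CfsgLib.Char.isCharacter_of_isIrr χ.2)]
        exact char_mem_rootRing (CfsgLib.Char.isCharacter_of_isIrr χ.2) (by rw [orderOf_inv]; exact hm g hg)
    · exact Subring.zero_mem _

end CfsgLib.DihDefect
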